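import Groth.Agent.FLCLib.Sub
import Groth.Agent.EtClosedPts.Decomp
import Groth.Prelude.Def_EtLam

/-!
# Sheaves of modules with finitely presented stalks along irreducible closed sets

A sheaf with action of `Λ` is in the class `FG` when, near every point `x`, finitely many sections span
every stalk over the closure of `x`, with the same module of relations at all these stalks.
-/

set_option autoImplicit false
set_option backward.isDefEq.respectTransparency false
set_option backward.isDefEq.respectTransparency.types false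
set_option linter.style.haveILetI false
set_option maxHeartbeats 800000

universe u

open CategoryTheory CategoryTheory.Limits AlgebraicGeometry Opposite

noncomputable section

namespace Groth.Agent.CurveFinLam

open EtPtsLib FLCLib

variable {Λ : Type} [CommRing Λ] {X : Scheme.{u}}

/-- The combination of sections with coefficients in `Λ`. -/
def sec (L : EtLam.Sheaf Λ X) {U : X.Etale} {n : ℕ} (s : Fin n → EtCoh.sect L.carrier U) :
    (Fin n → Λ) →+ EtCoh.sect L.carrier U :=
  AddMonoidHom.mk' (fun c => ∑ i, (L.act (c i)).hom.app (op U) (s i)) fun c d => by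
    rw [← Finset.sum_add_distrib]
    refine Finset.sum_congr rfl fun i _ => ?_
    rw [Pi.add_apply, map_add]
    rfl

theorem sec_apply (L : EtLam.Sheaf Λ X) {U : X.Etale} {n : ℕ} (s : Fin n → EtCoh.sect L.carrier U) (c : Fin n → Λ) :
    sec L s c = ∑ i, (L.act (c i)).hom.app (op U) (s i) := rfl

theorem sec_map (L : EtLam.Sheaf Λ X) {U V : X.Etale} (g : V ⟶ U) {n : ℕ} (s : Fin n → EtCoh.sect L.carrier U)
    (c : Fin n → Λ) : L.carrier.obj.map g.op (sec L s c) = sec L (fun i => L.carrier.obj.map g.op (s i)) c := by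
  rw [sec_apply, sec_apply, map_sum]
  exact Finset.sum_congr rfl fun i _ => (NatTrans.naturality_apply (L.act (c i)).hom g.op (s i)).symm

theorem sec_smul (L : EtLam.Sheaf Λ X) {U : X.Etale} {n : ℕ} (s : Fin n → EtCoh.sect L.carrier U) (r : Λ)
    (c : Fin n → Λ) : sec L s (r • c) = (L.act r).hom.app (op U) (sec L s c) := by
  rw [sec_apply, sec_apply, map_sum]
  refine Finset.sum_congr rfl fun i _ => ?_
  rw [Pi.smul_apply, smul_eq_mul, map_mul, End.mul_def]
  rfl

theorem sec_comp (L : EtLam.Sheaf Λ X) {U : X.Etale} {n m : ℕ} (t : Fin m → EtCoh.sect L.carrier U)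
    (A : Fin n → Fin m → Λ) (c : Fin n → Λ) :
    sec L (fun i => sec L t (A i)) c = sec L t (Fintype.linearCombination Λ A c) := by
  rw [Fintype.linearCombination_apply, map_sum, sec_apply]
  exact Finset.sum_congr rfl fun i _ => (sec_smul L t (c i) (A i)).symm

/-- Maps commuting with the actions. -/
def Eqv {L L' : EtLam.Sheaf Λ X} (φ : L.carrier ⟶ L'.carrier) : Prop :=
  ∀ r, L.act r ≫ φ = φ ≫ L'.act r

theorem Eqv.app_sec {L L' : EtLam.Sheaf Λ X} {φ : L.carrier ⟶ L'.carrier} (h : Eqv φ) {U : X.Etale} {n : ℕ}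
    (s : Fin n → EtCoh.sect L.carrier U) (c : Fin n → Λ) :
    φ.hom.app (op U) (sec L s c) = sec L' (fun i => φ.hom.app (op U) (s i)) c := by
  rw [sec_apply, sec_apply, map_sum]
  exact Finset.sum_congr rfl fun i _ => congr(($(h (c i))).hom.app (op U) (s i))

/-- The sections `s` generate all stalks over the closure of `x`, with relations `R`. -/
def At (L : EtLam.Sheaf Λ X) (x : X) (U : X.Etale) {n : ℕ} (s : Fin n → EtCoh.sect L.carrier U)
    (R : Submodule Λ (Fin n → Λ)) : Prop :=
  ∀ (Ω : Type u) [Field Ω] [IsSepClosed Ω] (ζ : Spec (CommRingCat.of Ω) ⟶ X)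
    (l : (Scheme.pointSmallEtale ζ).fiber.obj U), x ⤳ ζ default →
      Function.Surjective (fun c => germ ζ L.carrier l (sec L s c)) ∧
        ∀ c, germ ζ L.carrier l (sec L s c) = 0 ↔ c ∈ R

/-- Finitely presented stalks along irreducible closed sets. -/
def FG (L : EtLam.Sheaf Λ X) : Prop :=
  ∀ x : X, ∃ (U : X.Etale) (n : ℕ) (s : Fin n → EtCoh.sect L.carrier U) (R : Submodule Λ (Fin n → Λ)),
    x ∈ Set.range U.hom ∧ At L x U s R

theorem At.map {L : EtLam.Sheaf Λ X} {x : X} {U V : X.Etale} {n : ℕ} {s : Fin n → EtCoh.sect L.carrier U}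
    {R : Submodule Λ (Fin n → Λ)} (h : At L x U s R) (g : V ⟶ U) :
    At L x V (fun i => L.carrier.obj.map g.op (s i)) R := fun Ω _ _ ζ l hz => by
  have e : ∀ c, germ ζ L.carrier l (sec L (fun i => L.carrier.obj.map g.op (s i)) c) =
      germ ζ L.carrier ((Scheme.pointSmallEtale ζ).fiber.map g l) (sec L s c) := fun c => by
    rw [← sec_map]; exact germ_map ζ L.carrier g l _
  simp only [e]
  exact h Ω ζ _ hz

/-- A neighbourhood of the standard geometric point with generating sections. -/
theorem FG.exists_nbhd {L : EtLam.Sheaf Λ X} (h : FG L) (x : X) :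
    ∃ (p : FLCLib.Nbhd (geomPt x)) (n : ℕ) (s : Fin n → EtCoh.sect L.carrier p.1) (R : Submodule Λ (Fin n → Λ)),
      At L x p.1 s R := by
  obtain ⟨U, n, s, R, ⟨v, hv⟩, hs⟩ := h x
  obtain ⟨l, -⟩ := Scheme.pointSmallEtaleFiberObjToPreimage_surjective (geomPt x) (geomPt_default x) U ⟨v, hv⟩
  exact ⟨⟨U, l⟩, n, s, R, hs⟩

theorem mem_range_of_nbhd {x : X} (p : FLCLib.Nbhd (geomPt x)) : x ∈ Set.range p.1.hom :=
  ⟨p.point, p.hom_point.trans (geomPt_default x)⟩

/-- A map is a matrix on generating sections near the point. -/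
theorem exists_matrix {L L' : EtLam.Sheaf Λ X} {φ : L.carrier ⟶ L'.carrier} (hφ : Eqv φ) (hL : FG L) (hL' : FG L')
    (x : X) : ∃ (p : FLCLib.Nbhd (geomPt x)) (n m : ℕ) (s : Fin n → EtCoh.sect L.carrier p.1)
      (t : Fin m → EtCoh.sect L'.carrier p.1) (R : Submodule Λ (Fin n → Λ)) (R' : Submodule Λ (Fin m → Λ))
      (A : (Fin n → Λ) →ₗ[Λ] (Fin m → Λ)),
      At L x p.1 s R ∧ At L' x p.1 t R' ∧ ∀ c, φ.hom.app (op p.1) (sec L s c) = sec L' t (A c) := by
  obtain ⟨p, n, s₀, R, hs₀⟩ := hL.exists_nbhd x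
  obtain ⟨p', m, t₀, R', ht₀⟩ := hL'.exists_nbhd x
  obtain ⟨q, g, g', -⟩ := IsCofilteredOrEmpty.cone_objs p p'
  have hs := hs₀.map g.1
  have ht := ht₀.map g'.1
  let s := fun i => L.carrier.obj.map g.1.op (s₀ i)
  let t := fun i => L'.carrier.obj.map g'.1.op (t₀ i)
  choose A hA using fun i => (ht _ (geomPt x) q.2 ((geomPt_default x).symm ▸ specializes_rfl)).1
    (germ (geomPt x) L'.carrier q.2 (φ.hom.app (op q.1) (s i)))
  obtain ⟨q', k, hk⟩ := exists_forall_map_eq L'.carrier q (fun i => φ.hom.app (op q.1) (s i))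
    (fun i => sec L' t (A i)) fun i => (hA i).symm
  refine ⟨q', n, m, fun i => L.carrier.obj.map k.1.op (s i), fun i => L'.carrier.obj.map k.1.op (t i), R, R',
    Fintype.linearCombination Λ A, hs.map k.1, ht.map k.1, fun c => ?_⟩
  rw [hφ.app_sec, ← sec_comp]
  refine congrArg (fun w => sec L' w c) (funext fun i => ?_)
  rw [← sec_map L' k.1, ← hk i]
  exact NatTrans.naturality_apply φ.hom k.1.op (s i)

/-- The kernel of an equivariant map. -/
def kerSheaf {L L' : EtLam.Sheaf Λ X} (φ : L.carrier ⟶ L'.carrier) (h : Eqv φ) : EtLam.Sheaf Λ X where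
  carrier := kernel φ
  act :=
    { toFun := fun r => kernel.map φ φ (L.act r) (L'.act r) (h r).symm
      map_one' := by
        refine (cancel_mono (kernel.ι φ)).1 ?_
        simp [End.one_def]
      map_mul' := fun r r' => by
        refine (cancel_mono (kernel.ι φ)).1 ?_
        simp [End.mul_def]
      map_zero' := by
        refine (cancel_mono (kernel.ι φ)).1 ?_
        simp
      map_add' := fun r r' => by
        refine (cancel_mono (kernel.ι φ)).1 ?_
        rw [kernel.lift_ι, map_add]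
        erw [Preadditive.comp_add, Preadditive.add_comp]
        rw [kernel.lift_ι, kernel.lift_ι] }

theorem eqv_ι {L L' : EtLam.Sheaf Λ X} (φ : L.carrier ⟶ L'.carrier) (h : Eqv φ) :
    Eqv (L := kerSheaf φ h) (L' := L) (kernel.ι φ) := fun r =>
  kernel.lift_ι _ _ _

/-- The cokernel of an equivariant map. -/
def cokerSheaf {L L' : EtLam.Sheaf Λ X} (φ : L.carrier ⟶ L'.carrier) (h : Eqv φ) : EtLam.Sheaf Λ X where
  carrier := cokernel φ
  act :=
    { toFun := fun r => cokernel.map φ φ (L.act r) (L'.act r) (h r).symm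
      map_one' := by
        refine (cancel_epi (cokernel.π φ)).1 ?_
        simp [End.one_def]
      map_mul' := fun r r' => by
        refine (cancel_epi (cokernel.π φ)).1 ?_
        simp [End.mul_def]
      map_zero' := by
        refine (cancel_epi (cokernel.π φ)).1 ?_
        simp
      map_add' := fun r r' => by
        refine (cancel_epi (cokernel.π φ)).1 ?_
        rw [cokernel.π_desc, map_add]
        erw [Preadditive.add_comp, Preadditive.comp_add]
        rw [cokernel.π_desc, cokernel.π_desc] }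

theorem eqv_π {L L' : EtLam.Sheaf Λ X} (φ : L.carrier ⟶ L'.carrier) (h : Eqv φ) :
    Eqv (L := L') (L' := cokerSheaf φ h) (cokernel.π φ) := fun r =>
  (cokernel.π_desc _ _ _).symm

variable [IsNoetherianRing Λ]

theorem fg_ker {L L' : EtLam.Sheaf Λ X} (φ : L.carrier ⟶ L'.carrier) (h : Eqv φ) (hL : FG L) (hL' : FG L') :
    FG (kerSheaf φ h) := fun x => by
  obtain ⟨p, n, m, s, t, R, R', A, hs, ht, hA⟩ := exists_matrix h hL hL' x
  obtain ⟨N, d, hd⟩ := Submodule.fg_iff_exists_fin_generating_family.1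
    (IsNoetherian.noetherian (R'.comap A))
  obtain ⟨q, k, hk⟩ := exists_forall_map_eq L'.carrier p (fun j => φ.hom.app (op p.1) (sec L s (d j)))
    (fun _ => 0) fun j => by
      rw [hA]
      refine ((ht _ (geomPt x) p.2 ((geomPt_default x).symm ▸ specializes_rfl)).2 _).2 ?_ |>.trans (map_zero
        ((Scheme.pointSmallEtale (geomPt x)).toPresheafFiber p.1 p.2 L'.carrier.obj).hom).symm
      exact (show d j ∈ R'.comap A from hd ▸ Submodule.subset_span ⟨j, rfl⟩)
  have hz : ∀ j, φ.hom.app (op q.1) (L.carrier.obj.map k.1.op (sec L s (d j))) = 0 := fun j =>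
    (NatTrans.naturality_apply φ.hom k.1.op _).trans ((hk j).trans (map_zero _))
  choose e he using fun j => EtClosedPts.exists_kernel_sect φ _ (hz j)
  refine ⟨q.1, N, e, R.comap (Fintype.linearCombination Λ d), mem_range_of_nbhd q, fun Ω _ _ ζ l hzx => ?_⟩
  let s' := fun i => L.carrier.obj.map k.1.op (s i)
  let t' := fun i => L'.carrier.obj.map k.1.op (t i)
  have hs' : At L x q.1 s' R := hs.map k.1
  have ht' : At L' x q.1 t' R' := ht.map k.1
  have key : ∀ c, (EtCoh.stalk ζ).map (kernel.ι φ) (germ ζ _ l (sec (kerSheaf φ h) e c)) =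
      germ ζ L.carrier l (sec L s' (Fintype.linearCombination Λ d c)) := fun c => by
    refine ((Scheme.pointSmallEtale ζ).toPresheafFiber_naturality_apply (kernel.ι φ).hom q.1 l _).trans ?_
    refine congrArg (germ ζ L.carrier l) ?_
    refine ((eqv_ι φ h).app_sec e c).trans ?_
    rw [← sec_comp]
    exact congrArg (fun w => sec L w c) (funext fun j => (he j).trans (sec_map L k.1 s (d j)))
  have hA' : ∀ c, φ.hom.app (op q.1) (sec L s' c) = sec L' t' (A c) := fun c => by
    rw [← sec_map L k.1, ← sec_map L' k.1, ← hA c]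
    exact NatTrans.naturality_apply φ.hom k.1.op _
  have hinj := FLCLib.injective_stalk (kernel.ι φ) ζ
  refine ⟨fun b => ?_, fun c => ?_⟩
  · obtain ⟨c, hc⟩ := (hs' Ω ζ l hzx).1 ((EtCoh.stalk ζ).map (kernel.ι φ) b)
    have hcP : c ∈ R'.comap A := by
      refine ((ht' Ω ζ l hzx).2 (A c)).1 ?_
      rw [← hA' c]
      refine ((Scheme.pointSmallEtale ζ).toPresheafFiber_naturality_apply φ.hom q.1 l _).symm.trans ?_
      refine (congrArg ((EtCoh.stalk ζ).map φ) hc).trans ?_
      rw [← ConcreteCategory.comp_apply, ← Functor.map_comp, kernel.condition, Functor.map_zero]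
      rfl
    rw [← hd, ← Fintype.range_linearCombination] at hcP
    obtain ⟨c', rfl⟩ := hcP
    exact ⟨c', hinj ((key c').trans hc)⟩
  · rw [Submodule.mem_comap, ← (hs' Ω ζ l hzx).2, ← key]
    exact ⟨fun he => (congrArg ((EtCoh.stalk ζ).map (kernel.ι φ)) he).trans (map_zero _),
      fun he => hinj (he.trans (map_zero _).symm)⟩

omit [IsNoetherianRing Λ] in
theorem fg_coker {L L' : EtLam.Sheaf Λ X} (φ : L.carrier ⟶ L'.carrier) (h : Eqv φ) (hL : FG L) (hL' : FG L') :
    FG (cokerSheaf φ h) := fun x => by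
  obtain ⟨p, n, m, s, t, R, R', A, hs, ht, hA⟩ := exists_matrix h hL hL' x
  refine ⟨p.1, m, fun i => (cokernel.π φ).hom.app (op p.1) (t i), R' ⊔ LinearMap.range A, mem_range_of_nbhd p,
    fun Ω _ _ ζ l hzx => ?_⟩
  have key : ∀ c, germ ζ _ l (sec (cokerSheaf φ h) (fun i => (cokernel.π φ).hom.app (op p.1) (t i)) c) =
      (EtCoh.stalk ζ).map (cokernel.π φ) (germ ζ L'.carrier l (sec L' t c)) := fun c => by
    exact (congrArg (germ ζ _ l) ((eqv_π φ h).app_sec t c)).symm.trans
      ((Scheme.pointSmallEtale ζ).toPresheafFiber_naturality_apply (cokernel.π φ).hom p.1 l _).symm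
  have himg : ∀ c, (EtCoh.stalk ζ).map φ (germ ζ L.carrier l (sec L s c)) = germ ζ L'.carrier l (sec L' t (A c)) :=
    fun c => ((Scheme.pointSmallEtale ζ).toPresheafFiber_naturality_apply φ.hom p.1 l _).trans
      (congrArg (germ ζ L'.carrier l) (hA c))
  refine ⟨fun b => ?_, fun c => ?_⟩
  · obtain ⟨b', rfl⟩ := (epi_iff_ab (cokernel.π φ)).1 inferInstance Ω ζ b
    obtain ⟨c, rfl⟩ := (ht Ω ζ l hzx).1 b'
    exact ⟨c, key c⟩
  · rw [key c]
    constructor
    · intro hc
      let S := ShortComplex.mk φ (cokernel.π φ) (cokernel.condition φ)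
      have hS : S.Exact := ShortComplex.exact_of_g_is_cokernel _ (cokernelIsCokernel φ)
      obtain ⟨a, ha⟩ := (ShortComplex.ab_exact_iff _).1 ((exact_iff_ab S).1 hS Ω ζ) (germ ζ L'.carrier l (sec L' t c)) hc
      obtain ⟨c', rfl⟩ := (hs Ω ζ l hzx).1 a
      refine Submodule.mem_sup.2 ⟨c - A c', ?_, A c', ⟨c', rfl⟩, sub_add_cancel _ _⟩
      refine ((ht Ω ζ l hzx).2 _).1 ?_
      rw [map_sub]
      refine ((map_sub ((Scheme.pointSmallEtale ζ).toPresheafFiber p.1 l L'.carrier.obj).hom _ _).trans ?_)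
      exact sub_eq_zero.2 ((himg c').symm.trans ha).symm
    · intro hc
      obtain ⟨a, ha, b, ⟨c', rfl⟩, rfl⟩ := Submodule.mem_sup.1 hc
      have e1 : germ ζ L'.carrier l (sec L' t (a + A c')) =
          (EtCoh.stalk ζ).map φ (germ ζ L.carrier l (sec L s c')) := by
        rw [himg, map_add]
        refine (map_add ((Scheme.pointSmallEtale ζ).toPresheafFiber p.1 l L'.carrier.obj).hom _ _).trans ?_
        have h0 : ((Scheme.pointSmallEtale ζ).toPresheafFiber p.1 l L'.carrier.obj).hom (sec L' t a) = 0 :=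
          ((ht Ω ζ l hzx).2 a).2 ha
        rw [h0, zero_add]
      rw [e1, ← ConcreteCategory.comp_apply, ← Functor.map_comp, cokernel.condition, Functor.map_zero]
      rfl

end Groth.Agent.CurveFinLam
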