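import Groth.Agent.EtTraceLib.SkyVanish

/-!
# Elements of additive functors at a coproduct
-/

set_option autoImplicit false
set_option backward.isDefEq.respectTransparency false
set_option linter.style.haveILetI false
set_option maxHeartbeats 1000000

universe u

open CategoryTheory CategoryTheory.Limits AlgebraicGeometry Opposite CategoryTheory.Abelian

noncomputable section

namespace Groth.Agent.CurveFinLam

open CoproductsFromFiniteFiltered in
/-- An element at a coproduct is a sum of elements coming from the summands. -/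
theorem mem_closure_coprod {Y : Scheme.{u}} {ι : Type u} (S : ι → EtCoh.Ab Y) {c : Cofan S} (hc : IsColimit c)
    (Φ : EtCoh.Ab Y ⥤ AddCommGrpCat.{u + 1}) [Φ.Additive]
    [PreservesColimitsOfShape (AsSmall.{u + 1} (Finset (Discrete ι))) Φ] (x : Φ.obj c.pt) :
    x ∈ AddSubgroup.closure (⋃ i, Set.range (Φ.map (c.inj i))) := by
  classical
  haveI : HasColimitsOfShape (Finset (Discrete ι)) (EtCoh.Ab Y) :=
    hasColimitsOfShape_of_equivalence (AsSmall.equiv : Finset (Discrete ι) ≌ AsSmall.{u + 1} (Finset (Discrete ι))).symm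
  let G := liftToFinsetObj (Discrete.functor S)
  let L := liftToFinsetColimitCocone (Discrete.functor S)
  let e := hc.coconePointUniqueUpToIso L.isColimit
  let Λ := AsSmall.{u + 1} (Finset (Discrete ι))
  let w : Λ ≌ Finset (Discrete ι) := AsSmall.equiv.symm
  have hΛ := isColimitOfPreserves Φ ((colimit.isColimit G).whiskerEquivalence w)
  obtain ⟨a, y, hy⟩ := Concrete.isColimit_exists_rep _ hΛ (Φ.map e.hom x)
  let T := w.functor.obj a
  let r : ∀ s : T, G.obj T ⟶ S s.1.as :=
    fun s => Sigma.desc fun s' : T => if h : s' = s then eqToHom (by subst h; rfl) else 0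
  have hid : 𝟙 (G.obj T) = ∑ s : T, r s ≫ Sigma.ι (fun s : T => (Discrete.functor S).obj s.1) s := by
    refine Sigma.hom_ext _ _ fun s => ?_
    rw [Preadditive.comp_sum, Finset.sum_eq_single s]
    · simp [r]
      exact Category.comp_id _
    · intro b _ hb
      simp [r, Ne.symm hb]
    · exact fun hn => absurd (Finset.mem_univ s) hn
  let j := colimit.ι G T ≫ e.inv
  have hx : Φ.map j y = x := by
    show Φ.map (colimit.ι G T ≫ e.inv) y = x
    rw [Functor.map_comp]
    refine (congrArg (Φ.map e.inv) hy).trans ?_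
    show (Φ.map e.hom ≫ Φ.map e.inv) x = x
    rw [← Functor.map_comp, Iso.hom_inv_id, CategoryTheory.Functor.map_id]
    rfl
  have hs : ∀ s : T, Sigma.ι (fun s : T => (Discrete.functor S).obj s.1) s ≫ j = c.inj s.1.as := fun s => by
    rw [← Category.assoc, Iso.comp_inv_eq]
    refine Eq.trans ?_ (hc.comp_coconePointUniqueUpToIso_hom L.isColimit ⟨s.1.as⟩).symm
    have hs' := colimit.ι_desc (liftToFinsetColimitCocone (Discrete.functor S)).cocone ⟨s.1.as⟩
    simp [L, G, liftToFinsetColimitCocone]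
    have := colimit.w G (homOfLE (Finset.singleton_subset_iff.2 s.2) : ({s.1} : Finset (Discrete ι)) ⟶ T)
    rw [← this, ← Category.assoc]
    congr 1
    simp [G, liftToFinsetObj]
  rw [← hx, show j = ∑ s : T, r s ≫ c.inj s.1.as by
    rw [← Category.id_comp j, hid, Preadditive.sum_comp]
    exact Finset.sum_congr rfl fun s _ => by rw [Category.assoc, hs], Functor.map_sum]
  have e2 : (∑ s : T, Φ.map (r s ≫ c.inj s.1.as)) y = ∑ s : T, Φ.map (r s ≫ c.inj s.1.as) y := by
    exact map_sum (AddMonoidHom.mk' (fun g : Φ.obj (G.obj T) ⟶ Φ.obj c.pt => g y) fun a b => rfl) _ _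
  rw [e2]
  refine sum_mem fun s _ => AddSubgroup.subset_closure (Set.mem_iUnion.2 ⟨s.1.as, Φ.map (r s) y, ?_⟩)
  rw [Functor.map_comp]
  rfl

theorem mem_closure_H_coprod {Y : Scheme.{u}} [CompactSpace Y] [QuasiSeparatedSpace Y] {ι : Type u}
    (S : ι → EtCoh.Ab Y) {c : Cofan S} (hc : IsColimit c) (q : ℕ) (x : (EtCoh.HF Y q).obj c.pt) :
    x ∈ AddSubgroup.closure (⋃ i, Set.range ((EtCoh.HF Y q).map (c.inj i))) := by
  haveI := CohColim.preserves_HF (X := Y) q (AsSmall.{u + 1} (Finset (Discrete ι)))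
  exact mem_closure_coprod S hc _ x

theorem mem_closure_stalk_coprod {Y : Scheme.{u}} {ι : Type u} (S : ι → EtCoh.Ab Y) {c : Cofan S} (hc : IsColimit c)
    {Ω : Type u} [Field Ω] [IsSepClosed Ω] (ξ : Spec (CommRingCat.of Ω) ⟶ Y) (x : (EtCoh.stalk ξ).obj c.pt) :
    x ∈ AddSubgroup.closure (⋃ i, Set.range ((EtCoh.stalk ξ).map (c.inj i))) :=
  haveI : (EtCoh.stalk ξ).Additive := Functor.additive_of_preserves_binary_products _
  mem_closure_coprod S hc _ x

end Groth.Agent.CurveFinLam
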