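import Groth.Agent.CurveFinLam.Cls
import Groth.Agent.CurveFinLam.Coprod

/-!
# The sheaf of modules spanned by a finite sheaf

For a sheaf `G` killed by the prime `p`, the sum of copies of `G` indexed by a basis of `Λ/p` carries a
`Λ`-action; it maps onto every sheaf of modules killed by `p` spanned by an image of `G`.
-/

set_option autoImplicit false
set_option backward.isDefEq.respectTransparency false
set_option backward.isDefEq.respectTransparency.types false
set_option linter.style.haveILetI false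
set_option maxHeartbeats 800000

universe u

open CategoryTheory CategoryTheory.Limits AlgebraicGeometry Opposite

noncomputable section

namespace Groth.Agent.CurveFinLam

open EtPtsLib FLCLib

/-- The ring `Λ/p`. -/
abbrev ModP (Λ : Type) [CommRing Λ] (p : ℕ) : Type := Λ ⧸ Ideal.span ({(p : Λ)} : Set Λ)

theorem nsmul_modP {Λ : Type} [CommRing Λ] (p : ℕ) (x : ModP Λ p) : p • x = 0 := by
  rw [nsmul_eq_mul, show (p : ModP Λ p) = Ideal.Quotient.mk _ (p : Λ) from (map_natCast _ p).symm,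
    Ideal.Quotient.eq_zero_iff_mem.2 (Ideal.mem_span_singleton_self (p : Λ)), zero_mul]

variable {Λ : Type} [CommRing Λ] {X : Scheme.{u}} (p : ℕ) [Fact p.Prime]

instance moduleModP : Module (ZMod p) (ModP Λ p) := AddCommGroup.zmodModule (nsmul_modP p)

/-- An index set of a basis of `Λ/p`. -/
abbrev Idx (Λ : Type) [CommRing Λ] (p : ℕ) [Fact p.Prime] : Type u :=
  ULift.{u} (Module.Basis.ofVectorSpaceIndex (ZMod p) (ModP Λ p))

/-- A basis of `Λ/p`. -/
def bas : Module.Basis (Idx.{u} Λ p) (ZMod p) (ModP Λ p) :=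
  (Module.Basis.ofVectorSpace (ZMod p) (ModP Λ p)).reindex Equiv.ulift.symm

theorem addHom_ext {A : Type*} [AddCommGroup A] {h h' : ModP Λ p →+ A}
    (e : ∀ b, h (bas.{u} p b) = h' (bas.{u} p b)) : h = h' := by
  refine AddMonoidHom.ext fun x => ?_
  have hx : x ∈ Submodule.span (ZMod p) (Set.range (bas.{u} (Λ := Λ) p)) := by
    rw [(bas.{u} (Λ := Λ) p).span_eq]; trivial
  induction hx using Submodule.span_induction with
  | mem y hy =>
    obtain ⟨b, rfl⟩ := hy
    exact e b
  | zero => rw [map_zero, map_zero]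
  | add y z _ _ hy hz => rw [map_add, map_add, hy, hz]
  | smul c y _ hy =>
    obtain ⟨n, rfl⟩ : ∃ n : ℕ, (n : ZMod p) = c := ⟨c.val, ZMod.natCast_zmod_val c⟩
    rw [Nat.cast_smul_eq_nsmul, map_nsmul, map_nsmul, hy]

/-- The class of an element of `Λ`. -/
abbrev cls (r : Λ) : ModP Λ p := Ideal.Quotient.mk _ r

/-- A representative of a basis element. -/
def rep (b : Idx.{u} Λ p) : Λ := (Ideal.Quotient.mk_surjective (bas.{u} p b)).choose

theorem cls_rep (b : Idx.{u} Λ p) : cls p (rep.{u} (Λ := Λ) p b) = bas.{u} p b :=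
  (Ideal.Quotient.mk_surjective (bas.{u} p b)).choose_spec

variable (G : EtCoh.Ab X) (hG : p • 𝟙 G = 0)

/-- Scalars in `ℤ/p`. -/
def scal : ZMod p →+ (G ⟶ G) :=
  ZMod.lift p ⟨zmultiplesHom _ (𝟙 G), by simp [hG]⟩

theorem scal_one : scal p G hG 1 = 𝟙 G := by
  have h := ZMod.lift_coe p (f := ⟨zmultiplesHom (G ⟶ G) (𝟙 G), by simp [hG]⟩) 1
  rw [Int.cast_one] at h
  exact h.trans (by simp)

variable [HasColimitsOfShape (Discrete (Idx.{u} Λ p)) (EtCoh.Ab X)]

/-- The sum of copies of `G`. -/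
abbrev sumG : EtCoh.Ab X := ∐ fun _ : Idx.{u} Λ p => G

/-- The map `G → G ⊗ Λ/p` of tensoring with an element. -/
def Θ : ModP Λ p →+ (G ⟶ sumG (Λ := Λ) p G) :=
  (Finsupp.liftAddHom (M := ZMod p) (N := G ⟶ sumG (Λ := Λ) p G) fun b : Idx.{u} Λ p =>
    (Preadditive.rightComp G (Sigma.ι (fun _ : Idx.{u} Λ p => G) b)).comp (scal p G hG)).comp
    (bas.{u} p).repr.toAddMonoidHom

theorem Θ_bas (b : Idx.{u} Λ p) : Θ p G hG (bas.{u} p b) = Sigma.ι (fun _ : Idx.{u} Λ p => G) b := by
  show Finsupp.liftAddHom _ ((bas.{u} p).repr (bas.{u} p b)) = _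
  rw [Module.Basis.repr_self, Finsupp.liftAddHom_apply_single]
  show scal p G hG 1 ≫ _ = _
  rw [scal_one, Category.id_comp]

/-- Multiplication by a scalar. -/
def mulG (r : Λ) : sumG (Λ := Λ) p G ⟶ sumG (Λ := Λ) p G :=
  Sigma.desc fun b => Θ p G hG (cls p r * bas.{u} p b)

theorem Θ_mulG (r : Λ) (x : ModP Λ p) : Θ p G hG x ≫ mulG p G hG r = Θ p G hG (cls p r * x) := by
  have h : (AddMonoidHom.mk' (fun y : ModP Λ p => Θ p G hG y ≫ mulG p G hG r)
      fun a b => by rw [map_add, Preadditive.add_comp]) = (Θ p G hG).comp (AddMonoidHom.mulLeft (cls p r)) := by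
    refine addHom_ext p fun b => ?_
    show Θ p G hG (bas.{u} p b) ≫ mulG p G hG r = Θ p G hG (cls p r * bas.{u} p b)
    rw [Θ_bas, mulG, Sigma.ι_desc]
  exact congr($h x)

theorem ι_mulG (r : Λ) (b : Idx.{u} Λ p) :
    Sigma.ι (fun _ : Idx.{u} Λ p => G) b ≫ mulG p G hG r = Θ p G hG (cls p r * bas.{u} p b) :=
  Sigma.ι_desc _ _

/-- The sheaf `G ⊗ Λ/p`. -/
def spanSheaf : EtLam.Sheaf Λ X where
  carrier := sumG (Λ := Λ) p G
  act :=
    { toFun := mulG p G hG
      map_one' := Sigma.hom_ext _ _ fun b => by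
        rw [mulG, Sigma.ι_desc, show cls p (1 : Λ) = 1 from map_one _, one_mul, Θ_bas, End.one_def, Category.comp_id]
      map_mul' := fun r r' => Sigma.hom_ext _ _ fun b => by
        change Sigma.ι (fun _ : Idx.{u} Λ p => G) b ≫ mulG p G hG (r * r') =
          Sigma.ι (fun _ : Idx.{u} Λ p => G) b ≫ mulG p G hG r' ≫ mulG p G hG r
        rw [← Category.assoc, ι_mulG, ι_mulG, Θ_mulG, show cls p (r * r') = cls p r * cls p r' from map_mul _ _ _, mul_assoc]
      map_zero' := Sigma.hom_ext _ _ fun b => by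
        rw [mulG, Sigma.ι_desc, show cls p (0 : Λ) = 0 from map_zero _, zero_mul, map_zero]
        exact comp_zero.symm
      map_add' := fun r r' => Sigma.hom_ext _ _ fun b => by
        erw [Preadditive.comp_add]
        rw [mulG, mulG, mulG, Sigma.ι_desc, Sigma.ι_desc, Sigma.ι_desc,
          show cls p (r + r') = cls p r + cls p r' from map_add _ _ _, add_mul, map_add] }

/-- The tautological map. -/
def unitG : G ⟶ (spanSheaf (Λ := Λ) p G hG).carrier := Θ p G hG 1

theorem ι_eq (b : Idx.{u} Λ p) : Sigma.ι (fun _ : Idx.{u} Λ p => G) b =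
    unitG (Λ := Λ) p G hG ≫ (spanSheaf (Λ := Λ) p G hG).act (rep.{u} p b) := by
  show _ = Θ p G hG 1 ≫ mulG p G hG (rep.{u} p b)
  rw [Θ_mulG, mul_one, cls_rep, Θ_bas]

variable {L : EtLam.Sheaf Λ X} (φ : G ⟶ L.carrier) (hL : p • 𝟙 L.carrier = 0)

theorem act_natCast (L : EtLam.Sheaf Λ X) : (L.act (p : Λ) : L.carrier ⟶ L.carrier) = p • 𝟙 L.carrier := by
  rw [← nsmul_one p, map_nsmul, map_one, End.one_def]

/-- The map `Λ/p → Hom(G, L)`. -/
def Ψ : ModP Λ p →+ (G ⟶ L.carrier) :=
  QuotientAddGroup.lift _ (AddMonoidHom.mk' (fun r : Λ => φ ≫ L.act r) fun a b => by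
    rw [map_add]; exact Preadditive.comp_add _ _ _ _ _ _) fun x hx => by
    obtain ⟨a, rfl⟩ := Ideal.mem_span_singleton'.1 hx
    show φ ≫ L.act (a * (p : Λ)) = 0
    rw [map_mul, End.mul_def, act_natCast, hL, zero_comp, comp_zero]

theorem Ψ_cls (r : Λ) : Ψ p G φ hL (cls p r) = φ ≫ L.act r := rfl

/-- The map `G ⊗ Λ/p → L`. -/
def descG : (spanSheaf (Λ := Λ) p G hG).carrier ⟶ L.carrier :=
  Sigma.desc fun b => Ψ p G φ hL (bas.{u} p b)

theorem Θ_descG (x : ModP Λ p) : Θ p G hG x ≫ descG p G hG φ hL = Ψ p G φ hL x := by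
  have h : (AddMonoidHom.mk' (fun y : ModP Λ p => Θ p G hG y ≫ descG p G hG φ hL)
      fun a b => by rw [map_add, Preadditive.add_comp]) = Ψ p G φ hL := by
    refine addHom_ext p fun b => ?_
    show Θ p G hG (bas.{u} p b) ≫ descG p G hG φ hL = _
    rw [Θ_bas, descG, Sigma.ι_desc]
  exact congr($h x)

theorem unitG_descG : unitG p G hG ≫ descG p G hG φ hL = φ := by
  refine (Θ_descG p G hG φ hL 1).trans ?_
  rw [show (1 : ModP Λ p) = cls p 1 from (map_one _).symm, Ψ_cls, map_one, End.one_def, Category.comp_id]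

theorem eqv_descG : Eqv (L := spanSheaf (Λ := Λ) p G hG) (L' := L) (descG p G hG φ hL) := fun r => by
  refine Sigma.hom_ext _ _ fun b => ?_
  rw [← Category.assoc, ← Category.assoc]
  change (Sigma.ι _ b ≫ mulG p G hG r) ≫ _ = _
  rw [mulG, Sigma.ι_desc, Θ_descG, descG, Sigma.ι_desc, ← cls_rep.{u} p b,
    ← (show cls p (r * rep.{u} p b) = cls p r * cls p (rep.{u} p b) from map_mul _ _ _),
    Ψ_cls, Ψ_cls, map_mul, End.mul_def, Category.assoc]

/-- The projection to a summand. -/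
def projG (b : Idx.{u} Λ p) : sumG (Λ := Λ) p G ⟶ G :=
  haveI := Classical.decEq (Idx.{u} Λ p)
  Sigma.desc fun b' => if b' = b then 𝟙 G else 0

theorem Θ_projG (x : ModP Λ p) (b : Idx.{u} Λ p) :
    Θ p G hG x ≫ projG p G b = scal p G hG ((bas.{u} p).repr x b) := by
  classical
  have h : (AddMonoidHom.mk' (fun y : ModP Λ p => Θ p G hG y ≫ projG p G b)
      fun a c => by rw [map_add, Preadditive.add_comp]) =
      (scal p G hG).comp ((Finsupp.applyAddHom b).comp (bas.{u} (Λ := Λ) p).repr.toAddMonoidHom) := by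
    refine addHom_ext p fun b' => ?_
    show Θ p G hG (bas.{u} p b') ≫ projG p G b = scal p G hG ((bas.{u} p).repr (bas.{u} p b') b)
    rw [Θ_bas, projG, Sigma.ι_desc, Module.Basis.repr_self, Finsupp.single_apply]
    by_cases hb : b' = b
    · rw [if_pos hb, if_pos hb, scal_one]
    · rw [if_neg hb, if_neg hb, map_zero]
  exact congr($h x)

/-- Every element of a stalk is the sum of its components. -/
theorem exists_sum_stalk {Ω : Type u} [Field Ω] [IsSepClosed Ω] (ξ : Spec (CommRingCat.of Ω) ⟶ X)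
    (x : (EtCoh.stalk ξ).obj (sumG (Λ := Λ) p G)) :
    ∃ c : Idx.{u} Λ p →₀ (EtCoh.stalk ξ).obj G,
      x = c.sum fun b z => (EtCoh.stalk ξ).map (Sigma.ι (fun _ : Idx.{u} Λ p => G) b) z := by
  classical
  have hx := mem_closure_stalk_coprod (fun _ : Idx.{u} Λ p => G) (coproductIsCoproduct fun _ : Idx.{u} Λ p => G) ξ x
  induction hx using AddSubgroup.closure_induction with
  | mem y hy =>
    obtain ⟨b, z, rfl⟩ := Set.mem_iUnion.1 hy
    exact ⟨Finsupp.single b z, (Finsupp.sum_single_index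
      (h := fun b z => (EtCoh.stalk ξ).map (Sigma.ι (fun _ : Idx.{u} Λ p => G) b) z) (map_zero _)).symm⟩
  | zero => exact ⟨0, by simp⟩
  | add y z _ _ hy hz =>
    obtain ⟨c, rfl⟩ := hy
    obtain ⟨d, rfl⟩ := hz
    exact ⟨c + d, (Finsupp.sum_add_index' (fun b => map_zero _) fun b s t => map_add _ _ _).symm⟩
  | neg y _ hy =>
    obtain ⟨c, rfl⟩ := hy
    refine ⟨-c, ?_⟩
    rw [Finsupp.sum_neg_index (fun b => map_zero _), ← Finsupp.sum_neg]
    exact Finsupp.sum_congr fun b _ => (map_neg _ _).symm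

theorem stalk_eq_zero_of_proj {Ω : Type u} [Field Ω] [IsSepClosed Ω] (ξ : Spec (CommRingCat.of Ω) ⟶ X)
    (x : (EtCoh.stalk ξ).obj (sumG (Λ := Λ) p G)) (h : ∀ b, (EtCoh.stalk ξ).map (projG p G b) x = 0) : x = 0 := by
  classical
  obtain ⟨c, rfl⟩ := exists_sum_stalk p G ξ x
  suffices c = 0 by subst this; simp
  refine Finsupp.ext fun b => ?_
  haveI : (EtCoh.stalk ξ).Additive := Functor.additive_of_preserves_binary_products _
  have h1 := h b
  rw [map_finsuppSum] at h1
  have e : ∀ b' z, (EtCoh.stalk ξ).map (projG p G b) ((EtCoh.stalk ξ).map (Sigma.ι (fun _ : Idx.{u} Λ p => G) b') z) =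
      if b' = b then z else 0 := fun b' z => by
    rw [← ConcreteCategory.comp_apply, ← Functor.map_comp, projG, Sigma.ι_desc]
    by_cases hb : b' = b
    · rw [if_pos hb, if_pos hb, CategoryTheory.Functor.map_id]
      rfl
    · rw [if_neg hb, if_neg hb, Functor.map_zero]
      rfl
  simp only [e] at h1
  rw [Finsupp.sum, Finset.sum_ite_eq'] at h1
  by_cases hb : b ∈ c.support
  · rw [if_pos hb] at h1
    exact h1
  · exact Finsupp.notMem_support_iff.1 hb

variable {p G}

/-- `G ⊗ Λ/p` is in the class `FG` when the stalks of `G` are generically constant and finite. -/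
theorem fg_spanSheaf (hGc : FLCLib.GenConst G) : FG (spanSheaf (Λ := Λ) p G hG) := fun x => by
  classical
  obtain ⟨U, M, θ, ⟨v, hv⟩, hM, hθ⟩ := hGc x
  obtain ⟨n, ⟨em⟩⟩ := Finite.exists_equiv_fin M
  obtain ⟨l₀, -⟩ := Scheme.pointSmallEtaleFiberObjToPreimage_surjective (geomPt x) (geomPt_default x) U ⟨v, hv⟩
  let E := spanSheaf (Λ := Λ) p G hG
  let s : Fin n → EtCoh.sect E.carrier U := fun i => (unitG (Λ := Λ) p G hG).hom.app (op U) (θ (em.symm i))
  -- components of a combination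
  have comp_sec : ∀ (c : Fin n → Λ) (b : Idx.{u} Λ p), ∀ (Ω : Type u) [Field Ω] [IsSepClosed Ω] (ζ : Spec (CommRingCat.of Ω) ⟶ X)
      (l : (Scheme.pointSmallEtale ζ).fiber.obj U),
      (EtCoh.stalk ζ).map (projG p G b) (germ ζ E.carrier l (sec E s c)) =
        germ ζ G l (θ (∑ i, ((bas.{u} p).repr (cls p (c i)) b).val • em.symm i)) := fun c b => by
    intro Ω _ _ ζ l
    refine ((Scheme.pointSmallEtale ζ).toPresheafFiber_naturality_apply (projG p G b).hom U l _).trans ?_
    refine congrArg (germ ζ G l) ?_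
    rw [sec_apply, map_sum, map_sum]
    refine Finset.sum_congr rfl fun i _ => ?_
    show ((unitG (Λ := Λ) p G hG ≫ E.act (c i)) ≫ projG p G b).hom.app (op U) (θ (em.symm i)) = _
    rw [show unitG (Λ := Λ) p G hG ≫ E.act (c i) = Θ p G hG (cls p (c i)) from
      (Θ_mulG p G hG (c i) 1).trans (by rw [mul_one]), Θ_projG, map_nsmul]
    have hv : scal p G hG ((bas.{u} p).repr (cls p (c i)) b) = ((bas.{u} p).repr (cls p (c i)) b).val • 𝟙 G := by
      conv_lhs => rw [← ZMod.natCast_zmod_val ((bas.{u} p).repr (cls p (c i)) b), ← nsmul_one, map_nsmul, scal_one]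
    rw [hv]
    show ((AddMonoidHom.mk' (fun w : G ⟶ G => w.hom.app (op U) (θ (em.symm i))) fun a b => rfl)
      (((bas.{u} p).repr (cls p (c i)) b).val • 𝟙 G)) = _
    rw [map_nsmul]
    rfl
  let R : Submodule Λ (Fin n → Λ) :=
    { carrier := {c | germ (geomPt x) E.carrier l₀ (sec E s c) = 0}
      add_mem' := fun {a b} ha hb => by
        show ((Scheme.pointSmallEtale (geomPt x)).toPresheafFiber U l₀ E.carrier.obj).hom (sec E s (a + b)) = 0
        rw [map_add, map_add]
        exact (congrArg₂ (· + ·) ha hb).trans (add_zero _)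
      zero_mem' := by
        show ((Scheme.pointSmallEtale (geomPt x)).toPresheafFiber U l₀ E.carrier.obj).hom (sec E s 0) = 0
        rw [map_zero]
        exact map_zero _
      smul_mem' := fun r a ha => by
        show germ (geomPt x) E.carrier l₀ (sec E s (r • a)) = 0
        rw [sec_smul]
        refine ((Scheme.pointSmallEtale (geomPt x)).toPresheafFiber_naturality_apply (E.act r).hom U l₀ _).symm.trans ?_
        exact (congrArg _ ha).trans (map_zero _) }
  refine ⟨U, n, s, R, ⟨v, hv⟩, fun Ω _ _ ζ l hz => ⟨fun y => ?_, fun c => ?_⟩⟩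
  · obtain ⟨c, rfl⟩ := exists_sum_stalk p G ζ y
    let S : AddSubgroup ((EtCoh.stalk ζ).obj E.carrier) :=
      (((Scheme.pointSmallEtale ζ).toPresheafFiber U l E.carrier.obj).hom.comp (sec E s)).range
    suffices h : (c.sum fun b z => (EtCoh.stalk ζ).map (Sigma.ι (fun _ : Idx.{u} Λ p => G) b) z) ∈ S from h
    refine sum_mem fun b _ => ?_
    obtain ⟨m, hm⟩ := (hθ Ω ζ l hz).2 (c b)
    refine ⟨Pi.single (em m) (rep.{u} p b), ?_⟩
    show germ ζ E.carrier l (sec E s (Pi.single (em m) (rep.{u} p b))) = _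
    rw [← hm, sec_apply, Finset.sum_eq_single (em m) (fun i _ hi => by
      rw [Pi.single_eq_of_ne hi, map_zero]; rfl) (fun h => absurd (Finset.mem_univ _) h), Pi.single_eq_same]
    refine Eq.trans ?_ ((Scheme.pointSmallEtale ζ).toPresheafFiber_naturality_apply
      (Sigma.ι (fun _ : Idx.{u} Λ p => G) b).hom U l (θ m)).symm
    refine congrArg (germ ζ E.carrier l) ?_
    show (unitG (Λ := Λ) p G hG ≫ E.act (rep.{u} p b)).hom.app (op U) (θ (em.symm (em m))) = _
    rw [Equiv.symm_apply_apply, ← ι_eq]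
    rfl
  · haveI := Fintype.ofFinite M
    have key : ∀ (Ω : Type u) [Field Ω] [IsSepClosed Ω] (ζ : Spec (CommRingCat.of Ω) ⟶ X)
        (l : (Scheme.pointSmallEtale ζ).fiber.obj U), x ⤳ ζ default →
        (germ ζ E.carrier l (sec E s c) = 0 ↔
          ∀ b, (∑ i, ((bas.{u} p).repr (cls p (c i)) b).val • em.symm i) = 0) := fun Ω _ _ ζ l hz => by
      haveI : (EtCoh.stalk ζ).Additive := Functor.additive_of_preserves_binary_products _
      refine ⟨fun h0 b => (hθ Ω ζ l hz).1 ?_, fun h0 => stalk_eq_zero_of_proj p G ζ _ fun b => ?_⟩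
      · have hb := comp_sec c b
        have e0 : ∀ w : M, w = 0 → germ ζ G l (θ w) = 0 := fun w hw => by
          rw [hw, map_zero]
          exact map_zero ((Scheme.pointSmallEtale ζ).toPresheafFiber U l G.obj).hom
        refine ((hb Ω ζ l).symm.trans ?_).trans (e0 0 rfl).symm
        exact (congrArg _ h0).trans (map_zero _)
      · have hb := comp_sec c b
        rw [hb, h0 b, map_zero]
        exact map_zero ((Scheme.pointSmallEtale ζ).toPresheafFiber U l G.obj).hom
    exact (key Ω ζ l hz).trans (key _ (geomPt x) l₀ ((geomPt_default x).symm ▸ specializes_rfl)).symm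

end Groth.Agent.CurveFinLam
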