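import Groth.Agent.CurveFinLam.OfConstr
import Groth.Agent.CurveFinLam.Span
import Groth.Agent.CurveFin.Main
import Groth.Agent.FLCLib.Colim
import Groth.Agent.S0203

/-!
# The cohomology of constructible sheaves of modules on curves is finitely generated
-/

set_option autoImplicit false
set_option backward.isDefEq.respectTransparency false
set_option backward.isDefEq.respectTransparency.types false
set_option linter.style.haveILetI false
set_option maxHeartbeats 1000000

universe u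

open CategoryTheory CategoryTheory.Limits AlgebraicGeometry Opposite CategoryTheory.Abelian

noncomputable section

namespace Groth.Agent.CurveFinLam

open EtPtsLib FLCLib

variable {Λ : Type} [CommRing Λ] {X : Scheme.{u}}

/-- Finitely many points whose neighbourhoods cover all their specialisations. -/
theorem exists_finite_cover {α : Type u} [TopologicalSpace α] [TopologicalSpace.NoetherianSpace α] [QuasiSober α]
    (W : α → Set α) (hW : ∀ x, IsOpen (W x)) (hmem : ∀ x, x ∈ W x) :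
    ∃ T : Finset α, ∀ z, ∃ x ∈ T, x ⤳ z ∧ z ∈ W x := by
  classical
  suffices H : ∀ Z : TopologicalSpace.Closeds α, ∃ T : Finset α, ∀ z ∈ Z, ∃ x ∈ T, x ⤳ z ∧ z ∈ W x by
    obtain ⟨T, hT⟩ := H ⊤
    exact ⟨T, fun z => hT z trivial⟩
  intro Z
  induction Z using WellFoundedLT.induction with
  | _ Z ih =>
    by_cases hne : (Z : Set α).Nonempty
    swap
    · exact ⟨∅, fun z hz => absurd ⟨z, hz⟩ hne⟩
    by_cases hirr : IsPreirreducible (Z : Set α)
    · obtain ⟨g, hg⟩ := QuasiSober.sober ⟨hne, hirr⟩ Z.isClosed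
      obtain ⟨T, hT⟩ := ih ⟨(Z : Set α) \ W g, Z.isClosed.sdiff (hW g)⟩
        (lt_of_le_of_ne (fun z hz => hz.1) fun e => (e.symm ▸ hg.mem : g ∈ (⟨(Z : Set α) \ W g,
          Z.isClosed.sdiff (hW g)⟩ : TopologicalSpace.Closeds α)).2 (hmem g))
      refine ⟨insert g T, fun z hz => ?_⟩
      by_cases hzW : z ∈ W g
      · exact ⟨g, Finset.mem_insert_self _ _, specializes_iff_mem_closure.2 (hg.def.symm ▸ hz), hzW⟩
      · obtain ⟨x, hx, h⟩ := hT z ⟨hz, hzW⟩
        exact ⟨x, Finset.mem_insert_of_mem hx, h⟩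
    · rw [isPreirreducible_iff_isClosed_union_isClosed] at hirr
      push Not at hirr
      obtain ⟨A, B, hA, hB, hAB, hnA, hnB⟩ := hirr
      obtain ⟨T₁, h₁⟩ := ih ⟨(Z : Set α) ∩ A, Z.isClosed.inter hA⟩
        (lt_of_le_of_ne (fun z hz => hz.1) fun e => hnA fun z hz => (e.symm ▸ hz : z ∈ (⟨(Z : Set α) ∩ A,
          Z.isClosed.inter hA⟩ : TopologicalSpace.Closeds α)).2)
      obtain ⟨T₂, h₂⟩ := ih ⟨(Z : Set α) ∩ B, Z.isClosed.inter hB⟩
        (lt_of_le_of_ne (fun z hz => hz.1) fun e => hnB fun z hz => (e.symm ▸ hz : z ∈ (⟨(Z : Set α) ∩ B,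
          Z.isClosed.inter hB⟩ : TopologicalSpace.Closeds α)).2)
      refine ⟨T₁ ∪ T₂, fun z hz => ?_⟩
      rcases hAB hz with h | h
      · obtain ⟨x, hx, hh⟩ := h₁ z ⟨hz, h⟩
        exact ⟨x, Finset.mem_union_left _ hx, hh⟩
      · obtain ⟨x, hx, hh⟩ := h₂ z ⟨hz, h⟩
        exact ⟨x, Finset.mem_union_right _ hx, hh⟩

theorem FG.exists_affine {L : EtLam.Sheaf Λ X} (h : FG L) (x : X) :
    ∃ (U : X.Etale) (_ : IsAffine U.left) (n : ℕ) (s : Fin n → EtCoh.sect L.carrier U)
      (R : Submodule Λ (Fin n → Λ)), x ∈ Set.range U.hom ∧ At L x U s R := by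
  obtain ⟨U, n, s, R, ⟨v, hv⟩, hs⟩ := h x
  obtain ⟨W, hW, hvW, -⟩ := exists_isAffineOpen_mem_and_subset (show v ∈ (⊤ : U.left.Opens) from trivial)
  exact ⟨EtPointClass.sub U W, hW, n, _, R, ⟨⟨v, hvW⟩, hv⟩, hs.map (EtPointClass.incl U W)⟩

/-- A sheaf whose stalk elements are killed by multiplicatively closed integers is killed by one of them. -/
theorem exists_killed [AlgebraicGeometry.IsNoetherian X] {L : EtLam.Sheaf Λ X} (hL : FG L) (P : ℕ → Prop) (h1 : P 1)
    (hmul : ∀ a b, P a → P b → P (a * b))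
    (hP : ∀ (Ω : Type u) [Field Ω] [IsSepClosed Ω] (ξ : Spec (CommRingCat.of Ω) ⟶ X)
      (s : (EtCoh.stalk ξ).obj L.carrier), ∃ n, P n ∧ n • s = 0) : ∃ n, P n ∧ n • 𝟙 L.carrier = 0 := by
  classical
  have hd : ∀ x : X, ∃ (q : Nbhd (geomPt x)) (N : ℕ), P N ∧ ∀ (Ω : Type u) [Field Ω] [IsSepClosed Ω]
      (ζ : Spec (CommRingCat.of Ω) ⟶ X) (l : (Scheme.pointSmallEtale ζ).fiber.obj q.1), x ⤳ ζ default →
      ∀ b : (EtCoh.stalk ζ).obj L.carrier, N • b = 0 := fun x => by
    obtain ⟨p, n, s, R, hs⟩ := hL.exists_nbhd x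
    choose N hN hNs using fun i => hP _ (geomPt x) (germ (geomPt x) L.carrier p.2 (s i))
    have hPprod : P (∏ i, N i) := Finset.prod_induction N P hmul h1 fun i _ => hN i
    obtain ⟨q, k, hk⟩ := exists_forall_map_eq L.carrier p (fun i => (∏ i, N i) • s i) (fun _ => 0) fun i => by
      refine (map_nsmul ((Scheme.pointSmallEtale (geomPt x)).toPresheafFiber p.1 p.2 L.carrier.obj).hom _ _).trans ?_
      refine Eq.trans ?_ (map_zero ((Scheme.pointSmallEtale (geomPt x)).toPresheafFiber p.1 p.2 L.carrier.obj).hom).symm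
      obtain ⟨c, hc⟩ := Finset.dvd_prod_of_mem N (Finset.mem_univ i)
      rw [hc, mul_comm]
      exact (mul_nsmul' _ _ _).trans ((congrArg (c • ·) (hNs i)).trans (smul_zero _))
    refine ⟨q, ∏ i, N i, hPprod, fun Ω _ _ ζ l hz b => ?_⟩
    obtain ⟨c, rfl⟩ := ((hs.map k.1) Ω ζ l hz).1 b
    refine (map_nsmul ((Scheme.pointSmallEtale ζ).toPresheafFiber q.1 l L.carrier.obj).hom _ _).symm.trans ?_
    refine (congrArg _ ?_).trans (map_zero _)
    rw [sec_apply, ← Finset.sum_nsmul]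
    refine Finset.sum_eq_zero fun i _ => ?_
    rw [← map_nsmul, ← map_nsmul, hk i, map_zero, map_zero]
  choose q N hN hkill using hd
  haveI : QuasiSober X := inferInstance
  obtain ⟨T, hT⟩ := exists_finite_cover (fun x => Set.range (q x).1.hom)
    (fun x => haveI : AlgebraicGeometry.Etale (q x).1.hom := (q x).1.prop; (q x).1.hom.isOpenMap.isOpen_range)
    (fun x => mem_range_of_nbhd (q x))
  refine ⟨∏ x ∈ T, N x, Finset.prod_induction N P hmul h1 fun x _ => hN x, (killedBy_iff _ _).1 fun U s => ?_⟩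
  refine sect_ext L.carrier U _ 0 fun Ω _ _ ζ l => ?_
  refine (map_nsmul ((Scheme.pointSmallEtale ζ).toPresheafFiber U l L.carrier.obj).hom _ _).trans ?_
  refine Eq.trans ?_ (map_zero ((Scheme.pointSmallEtale ζ).toPresheafFiber U l L.carrier.obj).hom).symm
  obtain ⟨x, hxT, hxz, ⟨v, hv⟩⟩ := hT (ζ default)
  obtain ⟨l', -⟩ := Scheme.pointSmallEtaleFiberObjToPreimage_surjective ζ rfl (q x).1 ⟨v, hv⟩
  obtain ⟨c, hc⟩ := Finset.dvd_prod_of_mem N hxT
  rw [hc, mul_comm]
  exact (mul_nsmul' _ _ _).trans ((congrArg (c • ·) (hkill x Ω ζ l' hxz _)).trans (smul_zero _))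

theorem exists_cover_hom [CompactSpace X] [QuasiSeparatedSpace X] {F : EtCoh.Ab X} {p : ℕ} (hp : 0 < p)
    (hF : p • 𝟙 F = 0) {ι : Type*} (I : Finset ι) (U : ι → X.Etale) (hU : ∀ i, IsAffine (U i).left)
    (s : ∀ i, EtCoh.sect F (U i)) :
    ∃ (G : EtCoh.Ab X) (φ : G ⟶ F), EtPBC.IsConstructible G ∧ p • 𝟙 G = 0 ∧
      ∀ i ∈ I, ∃ g : EtCoh.sect G (U i), φ.hom.app (op (U i)) g = s i := by
  classical
  induction I using Finset.induction with
  | empty =>
    haveI : IsAffine (EtPointClass.sub (EtCoh.top X) ⊥).left := isAffineOpen_bot (EtCoh.top X).left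
    exact ⟨EtPBC.extZeroConst (EtPointClass.sub (EtCoh.top X) ⊥) (ZMod p), 0,
      isConstructible_extZeroConst_zmod _ p hp, (killedBy_iff _ _).1 (killedBy_extZeroConst _ p),
      fun i hi => absurd hi (Finset.notMem_empty i)⟩
  | @insert i I _ ih =>
    obtain ⟨G, φ, hGc, hGp, hG⟩ := ih
    haveI := hU i
    obtain ⟨ψ, e, he⟩ := exists_hom_sect F (U := U i) p (s i) ((killedBy_iff _ _).2 hF (U i) (s i))
    have k1 : EtCoh.KilledBy p (EtPBC.extZeroConst (U i) (ZMod p)) := killedBy_extZeroConst _ p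
    have k2 : EtCoh.KilledBy p G := (killedBy_iff _ _).2 hGp
    refine ⟨EtPBC.extZeroConst (U i) (ZMod p) ⊞ G, biprod.desc ψ φ,
      isConstructible_biprod hp k1 k2 (isConstructible_extZeroConst_zmod _ p hp) hGc,
      (killedBy_iff _ _).1 (killedBy_biprod k1 k2), fun j hj => ?_⟩
    rcases Finset.mem_insert.1 hj with rfl | hj
    · refine ⟨(biprod.inl : _ ⟶ EtPBC.extZeroConst (U j) (ZMod p) ⊞ G).hom.app (op (U j)) e, ?_⟩
      exact (congr(($(biprod.inl_desc ψ φ)).hom.app (op (U j)) e)).trans he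
    · obtain ⟨g, hg⟩ := hG j hj
      refine ⟨(biprod.inr : G ⟶ EtPBC.extZeroConst (U i) (ZMod p) ⊞ G).hom.app (op (U j)) g, ?_⟩
      exact (congr(($(biprod.inr_desc ψ φ)).hom.app (op (U j)) g)).trans hg

section Pres

variable [AlgebraicGeometry.IsNoetherian X] (p : ℕ) [Fact p.Prime]

/-- A sheaf killed by `p` in the class is a quotient of `G ⊗ Λ/p` with `G` finite constructible. -/
theorem exists_presentation {L : EtLam.Sheaf Λ X} (hL : FG L) (hLp : p • 𝟙 L.carrier = 0)
    [HasColimitsOfShape (Discrete (Idx.{u} Λ p)) (EtCoh.Ab X)] :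
    ∃ (G : EtCoh.Ab X) (hG : p • 𝟙 G = 0) (Φ : (spanSheaf (Λ := Λ) p G hG).carrier ⟶ L.carrier),
      EtPBC.IsConstructible G ∧ Eqv Φ ∧ Epi Φ := by
  classical
  choose U hU n s R hxU hs using fun x => hL.exists_affine x
  haveI : QuasiSober X := inferInstance
  obtain ⟨T, hT⟩ := exists_finite_cover (fun x => Set.range (U x).hom)
    (fun x => haveI : AlgebraicGeometry.Etale (U x).hom := (U x).prop; (U x).hom.isOpenMap.isOpen_range) hxU
  obtain ⟨G, φ, hGc, hG, hgen⟩ := exists_cover_hom (Fact.out : p.Prime).pos hLp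
    (T.sigma fun x => (Finset.univ : Finset (Fin (n x)))) (fun i => U i.1) (fun i => hU i.1) fun i => s i.1 i.2
  refine ⟨G, hG, descG p G hG φ hLp, hGc, eqv_descG p G hG φ hLp, (epi_iff_ab _).2 fun Ω _ _ ζ b => ?_⟩
  obtain ⟨x, hxT, hxz, ⟨v, hv⟩⟩ := hT (ζ default)
  obtain ⟨l, -⟩ := Scheme.pointSmallEtaleFiberObjToPreimage_surjective ζ rfl (U x) ⟨v, hv⟩
  obtain ⟨c, rfl⟩ := (hs x Ω ζ l hxz).1 b
  choose g hg using fun i : Fin (n x) => hgen ⟨x, i⟩ (Finset.mem_sigma.2 ⟨hxT, Finset.mem_univ i⟩)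
  let E := spanSheaf (Λ := Λ) p G hG
  refine ⟨germ ζ E.carrier l (sec E (fun i => (unitG (Λ := Λ) p G hG).hom.app (op (U x)) (g i)) c), ?_⟩
  refine ((Scheme.pointSmallEtale ζ).toPresheafFiber_naturality_apply (descG p G hG φ hLp).hom (U x) l _).trans ?_
  refine congrArg (germ ζ L.carrier l) ?_
  refine ((eqv_descG p G hG φ hLp).app_sec _ c).trans (congrArg (fun w => sec L w c) (funext fun i => ?_))
  exact (congr(($(unitG_descG p G hG φ hLp)).hom.app (op (U x)) (g i))).trans (hg i)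

end Pres

/-- Equivariant maps give linear maps on cohomology. -/
def Hlin {L L' : EtLam.Sheaf Λ X} (φ : L.carrier ⟶ L'.carrier) (h : Eqv φ) (q : ℕ) :
    EtCoh.H X L.carrier q →ₗ[Λ] EtCoh.H X L'.carrier q where
  toFun := CurveFin.Hmap φ q
  map_add' := map_add _
  map_smul' r x := by
    show Ext.comp (Ext.comp x (Ext.mk₀ (L.act r)) (add_zero q)) (Ext.mk₀ φ) (add_zero q) =
      Ext.comp (Ext.comp x (Ext.mk₀ φ) (add_zero q)) (Ext.mk₀ (L'.act r)) (add_zero q)
    rw [Ext.comp_assoc_of_second_deg_zero, Ext.mk₀_comp_mk₀, h r, ← Ext.mk₀_comp_mk₀,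
      ← Ext.comp_assoc_of_second_deg_zero]

/-- The connecting map of an equivariant short exact sequence. -/
def δlin {A B C : EtLam.Sheaf Λ X} (f : A.carrier ⟶ B.carrier) (g : B.carrier ⟶ C.carrier) (hf : Eqv f) (hg : Eqv g)
    (w : f ≫ g = 0) (hS : (ShortComplex.mk f g w).ShortExact) (q : ℕ) :
    EtCoh.H X C.carrier q →ₗ[Λ] EtCoh.H X A.carrier (q + 1) where
  toFun e := Ext.comp e hS.extClass rfl
  map_add' a b := Ext.add_comp _ _ _ _
  map_smul' r x := by
    let m : ShortComplex.mk f g w ⟶ ShortComplex.mk f g w :=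
      { τ₁ := A.act r, τ₂ := B.act r, τ₃ := C.act r, comm₁₂ := hf r, comm₂₃ := hg r }
    show Ext.comp (Ext.comp x (Ext.mk₀ (C.act r)) (add_zero q)) hS.extClass rfl =
      Ext.comp (Ext.comp x hS.extClass rfl) (Ext.mk₀ (A.act r)) (add_zero (q + 1))
    have := ShortComplex.ShortExact.extClass_naturality hS hS m
    rw [Ext.comp_assoc_of_third_deg_zero, this, Ext.comp_assoc_of_second_deg_zero]

theorem module_finite_mid [IsNoetherianRing Λ] {M N P : Type*} [AddCommGroup M] [AddCommGroup N] [AddCommGroup P]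
    [Module Λ M] [Module Λ N] [Module Λ P] (i : M →ₗ[Λ] N) (δ : N →ₗ[Λ] P) [Module.Finite Λ M] [Module.Finite Λ P]
    (hx : ∀ b, δ b = 0 → ∃ a, i a = b) : Module.Finite Λ N := by
  haveI : IsNoetherian Λ P := isNoetherian_of_isNoetherianRing_of_finite Λ P
  refine ⟨Submodule.fg_of_fg_map_of_fg_inf_ker δ (IsNoetherian.noetherian _) ?_⟩
  have e : (⊤ : Submodule Λ N) ⊓ LinearMap.ker δ = LinearMap.range i ⊓ LinearMap.ker δ :=
    le_antisymm (fun b hb => ⟨hx b hb.2, hb.2⟩) (inf_le_inf_right _ le_top)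
  haveI : Module.Finite Λ (LinearMap.range i) := inferInstance
  haveI : IsNoetherian Λ (LinearMap.range i) := isNoetherian_of_isNoetherianRing_of_finite Λ _
  rw [e]
  have hle : LinearMap.range i ⊓ LinearMap.ker δ ≤ LinearMap.range i := inf_le_left
  rw [← Submodule.map_comap_eq_self (f := (LinearMap.range i).subtype)
    (q := LinearMap.range i ⊓ LinearMap.ker δ) (by rw [Submodule.range_subtype]; exact hle)]
  exact (IsNoetherian.noetherian _).map _

section

variable (p : ℕ) [AlgebraicGeometry.IsNoetherian X] [Fact p.Prime] [IsNoetherianRing Λ]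
variable {k : Type u} [Field k] [IsAlgClosed k] (f : X ⟶ Spec (CommRingCat.of k)) [IsSeparated f]
  [LocallyOfFiniteType f] [QuasiCompact f]

include f in
omit [IsNoetherianRing Λ] in
theorem finite_H_spanSheaf (hdim : topologicalKrullDim X ≤ 1) (hpf : IsProper f ∨ (p : k) ≠ 0)
    [HasColimitsOfShape (Discrete (Idx.{u} Λ p)) (EtCoh.Ab X)] {G : EtCoh.Ab X} (hG : p • 𝟙 G = 0)
    (hGc : EtPBC.IsConstructible G) (q : ℕ) :
    Module.Finite Λ (EtCoh.H X (spanSheaf (Λ := Λ) p G hG).carrier q) := by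
  have hgood : CurveFin.Good f G := hpf.imp id fun h Ω _ _ ξ s =>
    ⟨p, h, CurveFin.stalk_nsmul_eq_zero p hG ξ s⟩
  haveI := CurveFin.finite_H f hdim q G hGc hgood
  haveI : CompactSpace X := inferInstance
  haveI : QuasiSeparatedSpace X := quasiSeparatedSpace_of_quasiSeparated f
  let E := spanSheaf (Λ := Λ) p G hG
  let N : Submodule Λ (EtCoh.H X E.carrier q) :=
    Submodule.span Λ (Set.range (CurveFin.Hmap (unitG (Λ := Λ) p G hG) q))
  refine ⟨?_⟩
  have hN : N = ⊤ := eq_top_iff.2 fun x _ => by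
    have hx := mem_closure_H_coprod (fun _ : Idx.{u} Λ p => G) (coproductIsCoproduct fun _ : Idx.{u} Λ p => G) q x
    refine (AddSubgroup.closure_le N.toAddSubgroup).2 ?_ hx
    intro y hy
    obtain ⟨b, z, rfl⟩ := Set.mem_iUnion.1 hy
    show Ext.comp z (Ext.mk₀ (Sigma.ι (fun _ : Idx.{u} Λ p => G) b)) (add_zero q) ∈ N
    have e : Ext.comp z (Ext.mk₀ (Sigma.ι (fun _ : Idx.{u} Λ p => G) b)) (add_zero q) =
        rep.{u} (Λ := Λ) p b • (CurveFin.Hmap (unitG (Λ := Λ) p G hG) q z : EtCoh.H X E.carrier q) := by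
      show _ = Ext.comp (Ext.comp z (Ext.mk₀ (unitG (Λ := Λ) p G hG)) (add_zero q))
        (Ext.mk₀ (E.act (rep.{u} p b))) (add_zero q)
      rw [Ext.comp_assoc_of_second_deg_zero, Ext.mk₀_comp_mk₀, ← ι_eq]
    rw [e]
    exact N.smul_mem _ (Submodule.subset_span ⟨z, rfl⟩)
  rw [← hN]
  exact Submodule.fg_span (Set.finite_range _)

include f in
/-- Descending induction for sheaves killed by `p`. -/
theorem finite_H_prime (hdim : topologicalKrullDim X ≤ 1) (hpf : IsProper f ∨ (p : k) ≠ 0) :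
    ∀ (q : ℕ) (L : EtLam.Sheaf Λ X), FG L → p • 𝟙 L.carrier = 0 → Module.Finite Λ (EtCoh.H X L.carrier q) := by
  suffices H : ∀ (d q : ℕ), 3 ≤ q + d → ∀ L : EtLam.Sheaf Λ X, FG L → p • 𝟙 L.carrier = 0 →
      Module.Finite Λ (EtCoh.H X L.carrier q) from fun q => H 3 q (by omega)
  intro d
  induction d with
  | zero =>
    intro q hq L _ hLp
    haveI := Groth.Agent.S0203.result k X f hdim L.carrier
      (EtTraceLib.isTorsion_of_nsmul_id_eq_zero (Fact.out : p.Prime).pos hLp) q (by omega)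
    infer_instance
  | succ d ih =>
    intro q hq L hL hLp
    obtain ⟨G, hG, Φ, hGc, hΦ, hepi⟩ := exists_presentation p hL hLp
    haveI := hepi
    let E := spanSheaf (Λ := Λ) p G hG
    have hE : FG E := fg_spanSheaf hG (genCard_of_isConstructible hGc).genConst
    have hEp : p • 𝟙 E.carrier = 0 := by
      refine Sigma.hom_ext _ _ fun b => ?_
      erw [Preadditive.comp_nsmul, Category.comp_id, comp_zero, ← Category.id_comp (Sigma.ι _ b),
        ← Preadditive.nsmul_comp, hG, zero_comp]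
    have hKp : p • 𝟙 (kerSheaf Φ hΦ).carrier = 0 := by
      refine (cancel_mono (kernel.ι Φ)).1 ?_
      erw [Preadditive.nsmul_comp, Category.id_comp, zero_comp, ← Category.comp_id (kernel.ι Φ),
        ← Preadditive.comp_nsmul, hEp, comp_zero]
    have hS : (ShortComplex.mk (kernel.ι Φ) Φ (kernel.condition Φ)).ShortExact :=
      ⟨ShortComplex.exact_of_f_is_kernel _ (kernelIsKernel Φ)⟩
    haveI := finite_H_spanSheaf p f hdim hpf hG hGc (Λ := Λ) q
    haveI := ih (q + 1) (by omega) (kerSheaf Φ hΦ) (fg_ker Φ hΦ hE hL) hKp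
    exact module_finite_mid (Hlin (L := E) (L' := L) Φ hΦ q)
      (δlin (A := kerSheaf Φ hΦ) (B := E) (C := L) (kernel.ι Φ) Φ (eqv_ι Φ hΦ) hΦ (kernel.condition Φ) hS q)
      fun b hb => Ext.covariant_sequence_exact₃ _ hS b rfl hb

omit [Fact p.Prime]

include f in
/-- Finiteness for sheaves killed by an admissible integer. -/
theorem finite_H_killed (hdim : topologicalKrullDim X ≤ 1) :
    ∀ (n : ℕ), 0 < n → (IsProper f ∨ (n : k) ≠ 0) → ∀ (q : ℕ) (L : EtLam.Sheaf Λ X), FG L →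
      n • 𝟙 L.carrier = 0 → Module.Finite Λ (EtCoh.H X L.carrier q) := by
  intro n
  induction n using Nat.strong_induction_on with
  | _ n ih =>
    intro hn hnf q L hL hLn
    rcases (Nat.one_le_iff_ne_zero.2 hn.ne').eq_or_lt with rfl | hn1
    · rw [one_smul] at hLn
      haveI : Subsingleton (EtCoh.H X L.carrier q) := subsingleton_of_forall_eq 0 fun x => by
        rw [← Ext.comp_mk₀_id x, hLn, Ext.mk₀_zero, Ext.comp_zero]
      infer_instance
    obtain ⟨p, hp, m, rfl⟩ := Nat.exists_prime_and_dvd hn1.ne'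
    haveI : Fact p.Prime := ⟨hp⟩
    have hm : 0 < m := Nat.pos_of_mul_pos_left hn
    have hmlt : m < p * m := lt_mul_of_one_lt_left hm hp.one_lt
    have hfac : IsProper f ∨ ((p : k) ≠ 0 ∧ (m : k) ≠ 0) := hnf.imp id fun h => by
      rw [Nat.cast_mul] at h
      exact ⟨left_ne_zero_of_mul h, right_ne_zero_of_mul h⟩
    let φ : L.carrier ⟶ L.carrier := L.act (p : Λ)
    have hφ : Eqv (L := L) (L' := L) φ := fun r => by
      show (L.act r : L.carrier ⟶ L.carrier) ≫ L.act (p : Λ) = L.act (p : Λ) ≫ L.act r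
      rw [← End.mul_def, ← End.mul_def, ← map_mul, ← map_mul, mul_comm]
    have hφe : φ = p • 𝟙 L.carrier := act_natCast p L
    let K := kerSheaf φ hφ
    let C := cokerSheaf (L := K) (L' := L) (kernel.ι φ) (eqv_ι φ hφ)
    have hK : FG K := fg_ker φ hφ hL hL
    have hC : FG C := fg_coker _ (eqv_ι φ hφ) hK hL
    have hKp : p • 𝟙 K.carrier = 0 := by
      refine (cancel_mono (kernel.ι φ)).1 ?_
      have := kernel.condition φ
      erw [Preadditive.nsmul_comp, Category.id_comp, zero_comp, ← Category.comp_id (kernel.ι φ),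
        ← Preadditive.comp_nsmul, ← hφe]
      exact this
    have hCm : m • 𝟙 C.carrier = 0 := by
      have e : (m • 𝟙 L.carrier) ≫ φ = 0 := by
        rw [hφe, Preadditive.comp_nsmul, Category.comp_id, ← mul_smul, hLn]
      refine (cancel_epi (cokernel.π (kernel.ι φ))).1 ?_
      erw [Preadditive.comp_nsmul, Category.comp_id, comp_zero, ← Category.id_comp (cokernel.π (kernel.ι φ)),
        ← Preadditive.nsmul_comp]
      rw [← kernel.lift_ι φ (m • 𝟙 L.carrier) e, Category.assoc, cokernel.condition, comp_zero]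
    have hS : (ShortComplex.mk (kernel.ι φ) (cokernel.π (kernel.ι φ)) (cokernel.condition _)).ShortExact :=
      ⟨ShortComplex.exact_of_g_is_cokernel _ (cokernelIsCokernel _)⟩
    haveI := finite_H_prime p f hdim (hfac.imp id And.left) q K hK hKp
    haveI := ih m hmlt hm (hfac.imp id And.right) q C hC hCm
    exact module_finite_mid (Hlin (L := K) (L' := L) (kernel.ι φ) (eqv_ι φ hφ) q)
      (Hlin (L := L) (L' := C) (cokernel.π (kernel.ι φ)) (eqv_π _ (eqv_ι φ hφ)) q)
      fun b hb => Ext.covariant_sequence_exact₂ _ hS b hb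

end

/-- Constructible sheaves of modules of admissible torsion on curves have finitely generated cohomology. -/
theorem finite_H [IsNoetherianRing Λ] {k : Type u} [Field k] [IsAlgClosed k] (f : X ⟶ Spec (CommRingCat.of k))
    [IsSeparated f] [LocallyOfFiniteType f] [QuasiCompact f] (hdim : topologicalKrullDim X ≤ 1)
    (L : EtLam.Sheaf Λ X) (hL : EtLam.IsConstructible L) (hLt : EtCoh.IsTorsion L.carrier)
    (hgood : CurveFin.Good f L.carrier) (q : ℕ) : Module.Finite Λ (EtCoh.H X L.carrier q) := by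
  haveI : IsLocallyNoetherian X := LocallyOfFiniteType.isLocallyNoetherian f
  haveI : CompactSpace X := (quasiCompact_iff_compactSpace f).1 inferInstance
  haveI : IsNoetherian X := { }
  have hFG := fg_of_isConstructible L hL
  obtain ⟨n, ⟨hn, hnf⟩, hLn⟩ := exists_killed hFG (fun n => 0 < n ∧ (IsProper f ∨ (n : k) ≠ 0))
    ⟨one_pos, Or.inr (by rw [Nat.cast_one]; exact one_ne_zero)⟩
    (fun a b ha hb => ⟨Nat.mul_pos ha.1 hb.1, by
      rcases ha.2 with h | h
      · exact Or.inl h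
      · rcases hb.2 with h' | h'
        · exact Or.inl h'
        · exact Or.inr (by rw [Nat.cast_mul]; exact mul_ne_zero h h')⟩)
    fun Ω _ _ ξ s => by
      rcases hgood with h | h
      · obtain ⟨U, l, t, rfl⟩ := (Scheme.pointSmallEtale ξ).toPresheafFiber_jointly_surjective s
        obtain ⟨V, g, ⟨v, hv⟩, hfin⟩ := hLt U t (liftHom ξ l default)
        obtain ⟨y, hy⟩ := exists_fiber_map_eq ξ g l v hv
        refine ⟨addOrderOf (L.carrier.obj.map g.op t), ⟨hfin.addOrderOf_pos, Or.inl h⟩, ?_⟩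
        rw [← hy]
        show _ • germ ξ L.carrier ((Scheme.pointSmallEtale ξ).fiber.map g y) t = 0
        rw [← germ_map]
        show _ • ((Scheme.pointSmallEtale ξ).toPresheafFiber V y L.carrier.obj).hom (L.carrier.obj.map g.op t) = 0
        rw [← map_nsmul, addOrderOf_nsmul_eq_zero, map_zero]
      · obtain ⟨n, hn, hns⟩ := h Ω ξ s
        exact ⟨n, ⟨Nat.pos_of_ne_zero fun e => hn (by rw [e, Nat.cast_zero]), Or.inr hn⟩, hns⟩
  exact finite_H_killed f hdim n hn hnf q L hFG hLn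

end Groth.Agent.CurveFinLam
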