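import Groth.Agent.CurveFinLam.Cls
import Groth.Agent.FLCLib.Strata

/-!
# Constructible sheaves of modules are in the class `FG`
-/

set_option autoImplicit false
set_option backward.isDefEq.respectTransparency false
set_option backward.isDefEq.respectTransparency.types false
set_option linter.style.haveILetI false
set_option maxHeartbeats 1600000

universe u

open CategoryTheory CategoryTheory.Limits AlgebraicGeometry Opposite Topology

noncomputable section

namespace Groth.Agent.CurveFinLam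

open EtPtsLib FLCLib

variable {Λ : Type} [CommRing Λ]

/-- A trivialisation gives constant sections, compatibly with the endomorphisms. -/
theorem exists_isConstOn_eqv {T : Scheme.{u}} (F : EtCoh.Ab T) (U : T.Etale) (M : AddCommGrpCat.{u + 1})
    (φ : F.over U ≅ (constantSheaf (T.smallEtaleTopology.over U) AddCommGrpCat.{u + 1}).obj M) {ι : Type*}
    (a : ι → (M ⟶ M)) (b : ι → (F ⟶ F))
    (h : ∀ i, (T.smallEtaleTopology.overPullback AddCommGrpCat.{u + 1} U).map (b i) ≫ φ.hom =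
      φ.hom ≫ (constantSheaf (T.smallEtaleTopology.over U) AddCommGrpCat.{u + 1}).map (a i)) :
    ∃ θ : M ⟶ F.obj.obj (op U), FLCLib.IsConstOn F U θ ∧ ∀ i, a i ≫ θ = θ ≫ (b i).hom.app (op U) := by
  let K := T.smallEtaleTopology.over U
  let P : (Over U)ᵒᵖ ⥤ AddCommGrpCat.{u + 1} := (Functor.const (Over U)ᵒᵖ).obj M
  let α : P ⟶ (F.over U).obj := CategoryTheory.toSheafify K P ≫ φ.inv.hom
  haveI : Presheaf.IsLocallyInjective K α := by
    haveI : Presheaf.IsLocallyInjective K φ.inv.hom :=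
      ((Sheaf.isLocallyBijective_iff_isIso φ.inv).2 inferInstance).1
    infer_instance
  haveI : Presheaf.IsLocallySurjective K α := by
    haveI : Presheaf.IsLocallySurjective K φ.inv.hom :=
      ((Sheaf.isLocallyBijective_iff_isIso φ.inv).2 inferInstance).2
    infer_instance
  refine ⟨α.app (op (Over.mk (𝟙 U))), fun Ω _ _ ξ l => ?_, fun i => ?_⟩
  swap
  · have e1 : (constantSheaf K AddCommGrpCat.{u + 1}).map (a i) ≫ φ.inv =
        φ.inv ≫ (T.smallEtaleTopology.overPullback AddCommGrpCat.{u + 1} U).map (b i) := by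
      rw [Iso.comp_inv_eq, Category.assoc, h i, Iso.inv_hom_id_assoc]
    have e2 := CategoryTheory.toSheafify_naturality K ((Functor.const (Over U)ᵒᵖ).map (a i))
    have e3 : (Functor.const (Over U)ᵒᵖ).map (a i) ≫ α =
        α ≫ ((T.smallEtaleTopology.overPullback AddCommGrpCat.{u + 1} U).map (b i)).hom :=
      (reassoc_of% e2) φ.inv.hom |>.trans ((congrArg (CategoryTheory.toSheafify K P ≫ ·)
        (congrArg (fun w => w.hom) e1)).trans (Category.assoc _ _ _).symm)
    exact congrArg (fun w => w.app (op (Over.mk (𝟙 U)))) e3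
  have nat : ∀ (W : T.Etale) (g : W ⟶ U) (m : M), F.obj.map g.op (α.app (op (Over.mk (𝟙 U))) m) = α.app (op (Over.mk g)) m :=
    fun W g m => (NatTrans.naturality_apply α (Over.homMk g (Category.comp_id g) : Over.mk g ⟶ Over.mk (𝟙 U)).op m).symm
  constructor
  · intro m m' e
    obtain ⟨W, g, y, -, hg⟩ := ((Scheme.pointSmallEtale ξ).toPresheafFiber_eq_iff' U l _ _).1 e
    replace hg : α.app (op (Over.mk g)) m = α.app (op (Over.mk g)) m' := (nat W g m).symm.trans (hg.trans (nat W g m'))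
    obtain ⟨Z, k, z, hk, -⟩ := exists_mem_over (Presheaf.equalizerSieve_mem K α m m' hg) (liftHom ξ y default)
    exact hk
  · intro c
    obtain ⟨V, y, t, rfl⟩ := (Scheme.pointSmallEtale ξ).toPresheafFiber_jointly_surjective c
    obtain ⟨S, g₁, g₂, -⟩ := IsCofilteredOrEmpty.cone_objs (C := (Scheme.pointSmallEtale ξ).fiber.Elements) ⟨V, y⟩ ⟨U, l⟩
    let Y₀ : Over U := Over.mk g₂.1
    let t₀ : ToType ((F.over U).obj.obj (op Y₀)) := F.obj.map g₁.1.op t
    have hmem := Presheaf.imageSieve_mem K α t₀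
    obtain ⟨Z, k, z, ⟨m, hm⟩, hz⟩ := exists_mem_over hmem (liftHom ξ S.2 default)
    obtain ⟨w, hw⟩ := exists_fiber_map_eq ξ k.left S.2 z hz
    refine ⟨m, ?_⟩
    have e₁ : germ ξ F w (F.obj.map k.left.op (F.obj.map g₁.1.op t)) = germ ξ F y t := by
      rw [germ_map, hw]
      exact (germ_map ξ F g₁.1 S.2 t).trans (congrArg (fun q => germ ξ F q t) g₁.2)
    have e₂ : germ ξ F w (F.obj.map k.left.op (F.obj.map g₂.1.op (α.app (op (Over.mk (𝟙 U))) m))) =
        germ ξ F l (α.app (op (Over.mk (𝟙 U))) m) := by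
      rw [germ_map, hw]
      exact (germ_map ξ F g₂.1 S.2 _).trans (congrArg (fun q => germ ξ F q (α.app (op (Over.mk (𝟙 U))) m)) g₂.2)
    refine e₂.symm.trans (Eq.trans ?_ e₁)
    refine congrArg (germ ξ F w) ?_
    refine ((congrArg (F.obj.map k.left.op) (nat _ g₂.1 m)).trans ?_).trans hm
    exact (NatTrans.naturality_apply α k.op m).symm

variable {X : Scheme.{u}}

theorem fg_of_isConstructible (L : EtLam.Sheaf Λ X) (hL : EtLam.IsConstructible L) : FG L := fun x => by
  classical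
  obtain ⟨_, ⟨W₀, hW₀, rfl⟩, hxW, -⟩ :=
    X.isBasis_affineOpens.exists_subset_of_mem_open (Set.mem_univ x) isOpen_univ
  obtain ⟨N, T, g, hg, -, -, hcov, hflc⟩ := hL W₀ hW₀
  obtain ⟨j, t, ht⟩ : ∃ j, x ∈ Set.range (g j) := by
    rw [← hcov] at hxW
    exact Set.mem_iUnion.1 hxW
  haveI := hg j
  obtain ⟨ι, V, hVc, hV⟩ := hflc j
  obtain ⟨i, w, hw⟩ := hVc t
  obtain ⟨M₀, _, _, hMfin, e, he⟩ := hV i
  let M : AddCommGrpCat.{u + 1} := AddCommGrpCat.of (ULift.{u + 1} M₀)
  let P := EtLam.pullback (g j) L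
  obtain ⟨θ, hθ, hθe⟩ := exists_isConstOn_eqv P.carrier (V i) M e
    (fun r : Λ => AddCommGrpCat.ofHom (DistribSMul.toAddMonoidHom (ULift.{u + 1} M₀) r)) (fun r => P.act r) he
  obtain ⟨n, m₀, hm₀⟩ := Submodule.fg_iff_exists_fin_generating_family.1 hMfin.fg_top
  let A : (Fin n → Λ) →ₗ[Λ] M₀ := Fintype.linearCombination Λ m₀
  have hA : Function.Surjective A := fun z => by
    have : z ∈ LinearMap.range A := by rw [Fintype.range_linearCombination, hm₀]; trivial
    exact this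
  let θs : Fin n → EtCoh.sect P.carrier (V i) := fun k => θ ⟨m₀ k⟩
  have hsec : ∀ c, sec P θs c = θ ⟨A c⟩ := fun c => by
    rw [sec_apply, show (⟨A c⟩ : ULift.{u + 1} M₀) = ∑ k, c k • (⟨m₀ k⟩ : ULift.{u + 1} M₀) from
      ULift.ext _ _ (by
        simp only [A, Fintype.linearCombination_apply]
        exact (map_sum (ULift.moduleEquiv (R := Λ) (M := M₀)) (fun k => c k • (⟨m₀ k⟩ : ULift.{u + 1} M₀)) _).symm)]
    refine Eq.trans ?_ (map_sum θ.hom _ _).symm
    exact Finset.sum_congr rfl fun k _ => (congr($(hθe (c k)) ⟨m₀ k⟩)).symm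
  have hcrit : ∀ (Ω : Type u) [Field Ω] [IsSepClosed Ω] (ζ : Spec (CommRingCat.of Ω) ⟶ T j)
      (l : (Scheme.pointSmallEtale ζ).fiber.obj (V i)),
      Function.Surjective (fun c => germ ζ P.carrier l (sec P θs c)) ∧
        ∀ c, germ ζ P.carrier l (sec P θs c) = 0 ↔ A c = 0 := fun Ω _ _ ζ l => by
    simp only [hsec]
    refine ⟨fun b => ?_, fun c => ⟨fun h0 => ?_, fun h0 => ?_⟩⟩
    · obtain ⟨⟨z⟩, hz⟩ := (hθ Ω ζ l).2 b
      obtain ⟨c, hc⟩ := hA z
      exact ⟨c, (congrArg (fun v => germ ζ P.carrier l (θ ⟨v⟩)) hc).trans hz⟩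
    · refine congrArg ULift.down ((hθ Ω ζ l).1 (a₁ := (⟨A c⟩ : ULift.{u + 1} M₀)) (a₂ := 0) (h0.trans ?_))
      show (0 : (EtCoh.stalk ζ).obj P.carrier) = germ ζ P.carrier l (θ 0)
      rw [map_zero]
      exact (map_zero ((Scheme.pointSmallEtale ζ).toPresheafFiber (V i) l P.carrier.obj).hom).symm
    · rw [h0]
      show germ ζ P.carrier l (θ 0) = 0
      rw [map_zero]
      exact map_zero ((Scheme.pointSmallEtale ζ).toPresheafFiber (V i) l P.carrier.obj).hom
  -- a neighbourhood on `X`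
  let η := geomPt t
  obtain ⟨lV, -⟩ := Scheme.pointSmallEtaleFiberObjToPreimage_surjective η (geomPt_default t) (V i) ⟨w, hw⟩
  have hξ : (η ≫ g j) default = x := by rw [Scheme.Hom.comp_apply, geomPt_default, ht]
  choose b hb using fun k => (bijective_unitStalk (g j) η L.carrier).2 (germ η P.carrier lV (θs k))
  obtain ⟨p, -, s, hs⟩ := exists_forall_germ_eq L.carrier (⟨EtCoh.top X, topLift (η ≫ g j)⟩ : Nbhd (η ≫ g j)) b
  let s' : Fin n → EtCoh.sect P.carrier ((EtCoh.bc (g j)).obj p.1) := fun k =>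
    ((EtCoh.pullPushAdj (g j)).unit.app L.carrier).hom.app (op p.1) (s k)
  have hs' : ∀ k, germ η P.carrier (liftBc (g j) η p.1 p.2) (s' k) = germ η P.carrier lV (θs k) := fun k => by
    refine Eq.trans ?_ (hb k)
    rw [← hs k]
    exact (ConcreteCategory.congr_hom (toPresheafFiber_unitStalk (g j) η L.carrier p.1 p.2) (s k)).symm
  obtain ⟨q, c₁, c₂, -⟩ := IsCofilteredOrEmpty.cone_objs (C := Nbhd η)
    (⟨(EtCoh.bc (g j)).obj p.1, liftBc (g j) η p.1 p.2⟩ : Nbhd η) ⟨V i, lV⟩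
  obtain ⟨q', k', hk'⟩ := exists_forall_map_eq P.carrier q (fun k => P.carrier.obj.map c₁.1.op (s' k))
    (fun k => P.carrier.obj.map c₂.1.op (θs k)) fun k => by
      rw [germ_map, germ_map, c₁.2, c₂.2]
      exact hs' k
  let a : q'.1 ⟶ (EtCoh.bc (g j)).obj p.1 := k'.1 ≫ c₁.1
  let d : q'.1 ⟶ V i := k'.1 ≫ c₂.1
  have had : ∀ k, P.carrier.obj.map a.op (s' k) = P.carrier.obj.map d.op (θs k) := fun k => by
    simp only [a, d, op_comp, Functor.map_comp, ConcreteCategory.comp_apply]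
    exact hk' k
  haveI := etale_left a
  haveI : IsPreimmersion (bcFst (g j) p.1) := (inferInstance : IsPreimmersion (pullback.fst p.1.hom (g j)))
  obtain ⟨O, hO, hOa⟩ := (bcFst (g j) p.1).isEmbedding.isInducing.isOpen_iff.1 a.left.isOpenMap.isOpen_range
  obtain ⟨A', Z', hA', hZ', hAZ⟩ := (g j).isLocallyClosed_range
  let O' : p.1.left.Opens := ⟨O ∩ p.1.hom ⁻¹' A', hO.inter (hA'.preimage p.1.hom.continuous)⟩
  have hpO : p.point ∈ O' := by
    refine ⟨?_, ?_⟩
    · have h1 : a.left q'.point ∈ Set.range a.left := ⟨_, rfl⟩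
      rw [← hOa] at h1
      have e2 : a.left q'.point = (Nbhd.point (ξ := η) ⟨_, liftBc (g j) η p.1 p.2⟩) :=
        Nbhd.map_point (k' ≫ c₁)
      have e3 : bcFst (g j) p.1 ((Nbhd.point (ξ := η) ⟨_, liftBc (g j) η p.1 p.2⟩)) = p.point :=
        (Scheme.Hom.comp_apply _ _ _).symm.trans
          (congrArg (fun w : Spec _ ⟶ p.1.left => w default) (liftHom_liftBc_fst (g j) η p.1 p.2))
      rw [Set.mem_preimage, e2, e3] at h1
      exact h1
    · show p.1.hom p.point ∈ A'
      rw [p.hom_point, hξ]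
      exact (hAZ ▸ (⟨t, ht⟩ : x ∈ Set.range (g j)) : x ∈ A' ∩ Z').1
  let U' := EtPointClass.sub p.1 O'
  let inc := EtPointClass.incl p.1 O'
  refine ⟨U', n, fun k => L.carrier.obj.map inc.op (s k), LinearMap.ker A,
    ⟨⟨p.point, hpO⟩, p.hom_point.trans hξ⟩, fun Ω _ _ ζ l hz => ?_⟩
  let l₁ := (Scheme.pointSmallEtale ζ).fiber.map inc l
  have hl₁O : liftHom ζ l₁ default ∈ O' :=
    (congrArg (fun w => w default) (liftHom_map ζ inc l)).symm ▸ (liftHom ζ l default : Scheme.Opens.toScheme O').2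
  have hζr : ζ default ∈ Set.range (g j) := by
    rw [hAZ]
    refine ⟨?_, hz.mem_closed hZ' (hAZ ▸ (⟨t, ht⟩ : x ∈ Set.range (g j)) : x ∈ A' ∩ Z').2⟩
    have := hl₁O.2
    have e : p.1.hom (liftHom ζ l₁ default) = ζ default :=
      (Scheme.Hom.comp_apply _ _ _).symm.trans (congrArg (fun w : Spec _ ⟶ X => w default) (liftHom_comp ζ l₁))
    exact e ▸ this
  obtain ⟨ζ', hζ'⟩ := exists_fac_immersion (g j) ζ hζr
  subst hζ'
  have hz'' : liftHom ζ' (liftBc (g j) ζ' p.1 l₁) default ∈ Set.range a.left := by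
    rw [← hOa, Set.mem_preimage]
    refine (?_ : bcFst (g j) p.1 _ = liftHom (ζ' ≫ g j) l₁ default) ▸ hl₁O.1
    exact (Scheme.Hom.comp_apply _ _ _).symm.trans
      (congrArg (fun w : Spec _ ⟶ p.1.left => w default) (liftHom_liftBc_fst (g j) ζ' p.1 l₁))
  obtain ⟨v, hv⟩ := hz''
  obtain ⟨y, hy⟩ := exists_fiber_map_eq ζ' a (liftBc (g j) ζ' p.1 l₁) v hv
  have key : ∀ c, unitStalk (g j) ζ' L.carrier (germ (ζ' ≫ g j) L.carrier l (sec L (fun k => L.carrier.obj.map inc.op (s k)) c)) =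
      germ ζ' P.carrier ((Scheme.pointSmallEtale ζ').fiber.map d y) (sec P θs c) := fun c => by
    rw [← sec_map, germ_map]
    refine (ConcreteCategory.congr_hom (toPresheafFiber_unitStalk (g j) ζ' L.carrier p.1 l₁) (sec L s c)).trans ?_
    have e1 : ((EtCoh.pullPushAdj (g j)).unit.app L.carrier).hom.app (op p.1) (sec L s c) = sec P s' c := by
      rw [sec_apply, sec_apply, map_sum]
      exact Finset.sum_congr rfl fun k _ =>
        congr(($((EtCoh.pullPushAdj (g j)).unit.naturality (L.act (c k)))).hom.app (op p.1) (s k))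
    refine (congrArg _ e1).trans ?_
    show germ ζ' P.carrier (liftBc (g j) ζ' p.1 l₁) (sec P s' c) = _
    rw [← hy, ← germ_map, ← germ_map, sec_map, sec_map]
    exact congrArg (fun w => germ ζ' P.carrier y (sec P w c)) (funext had)
  obtain ⟨hsur, hker⟩ := hcrit Ω ζ' ((Scheme.pointSmallEtale ζ').fiber.map d y)
  have hinj := bijective_unitStalk (g j) ζ' L.carrier
  refine ⟨fun b => ?_, fun c => ?_⟩
  · obtain ⟨c, hc⟩ := hsur (unitStalk (g j) ζ' L.carrier b)
    exact ⟨c, hinj.1 ((key c).trans hc)⟩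
  · rw [LinearMap.mem_ker, ← hker c, ← key c]
    exact ⟨fun h0 => (congrArg _ h0).trans (map_zero _), fun h0 => hinj.1 (h0.trans (map_zero _).symm)⟩

end Groth.Agent.CurveFinLam
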