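import Groth.Agent.CurveFinLam.Main
import Groth.Agent.EtPtsLib.ExtZeroStalk
import Groth.Prelude.Def_FinFr

/-!
# Extension by zero along an open immersion preserves the class `FG`
-/

set_option autoImplicit false
set_option backward.isDefEq.respectTransparency false
set_option backward.isDefEq.respectTransparency.types false
set_option linter.style.haveILetI false
set_option maxHeartbeats 1000000

universe u

open CategoryTheory CategoryTheory.Limits AlgebraicGeometry Opposite

noncomputable section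

namespace Groth.Agent.CurveFinLam

open EtPtsLib FLCLib

variable {Λ : Type} [CommRing Λ] {U X : Scheme.{u}} (j : U ⟶ X) [IsOpenImmersion j]
  {Ω : Type u} [Field Ω] [IsSepClosed Ω] {ξ : Spec (CommRingCat.of Ω) ⟶ X}

theorem subsingleton_ptsOver : Subsingleton (PtsOver j ξ) :=
  ⟨fun a b => Subtype.ext ((cancel_mono j).1 (a.2.trans b.2.symm))⟩

theorem isIso_ιStalk (F : EtCoh.Ab U) (u : PtsOver j ξ) : IsIso (ιStalk F u) := by
  haveI := subsingleton_ptsOver j (ξ := ξ)
  let g : ∀ u' : PtsOver j ξ, (EtCoh.stalk u'.1).obj F ⟶ (EtCoh.stalk u.1).obj F :=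
    fun u' => eqToHom (by rw [Subsingleton.elim u' u])
  refine ⟨descStalk F g, (ιStalk_descStalk F g u).trans (by simp [g]), ?_⟩
  refine (descStalk_uniq F (fun u' => ιStalk F u') (descStalk F g ≫ ιStalk F u) fun u' => ?_).trans
    (descStalk_uniq F (fun u' => ιStalk F u') (𝟙 _) fun u' => Category.comp_id _).symm
  obtain rfl : u' = u := Subsingleton.elim _ _
  rw [← Category.assoc, ιStalk_descStalk]
  simp [g]

theorem isZero_stalk_outside (F : EtCoh.Ab U) (h : ξ default ∉ Set.range j) :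
    IsZero ((EtCoh.stalk ξ).obj ((EtShriek.extZero j).obj F)) := by
  haveI : IsEmpty (PtsOver j ξ) := ⟨fun u => h ⟨u.1 default,
    ((Scheme.Hom.comp_apply _ _ _).symm.trans (congrArg (fun w : Spec _ ⟶ X => w default) u.2))⟩⟩
  rw [IsZero.iff_id_eq_zero]
  exact (descStalk_uniq F (fun u => 0) (𝟙 _) fun u => isEmptyElim u).trans
    (descStalk_uniq F (fun u => 0) 0 fun u => isEmptyElim u).symm

theorem mem_stalk_shriek (L : EtCoh.Ab U) (b : (EtCoh.stalk ξ).obj ((EtShriek.extZero j).obj L)) :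
    b = 0 ∨ ∃ (u : PtsOver j ξ) (b' : (EtCoh.stalk u.1).obj L), ιStalk L u b' = b := by
  by_cases h : ξ default ∈ Set.range j
  · obtain ⟨ζ, hζ⟩ := FLCLib.exists_fac_immersion j ξ h
    haveI := isIso_ιStalk j L (⟨ζ, hζ⟩ : PtsOver j ξ)
    obtain ⟨b', hb'⟩ := (ConcreteCategory.bijective_of_isIso (ιStalk L (⟨ζ, hζ⟩ : PtsOver j ξ))).2 b
    exact Or.inr ⟨⟨ζ, hζ⟩, b', hb'⟩
  · haveI := AddCommGrpCat.subsingleton_of_isZero (isZero_stalk_outside j L h)
    exact Or.inl (Subsingleton.elim _ _)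

/-- Extension by zero of the class `FG`. -/
theorem fg_extZeroLam (L : EtLam.Sheaf Λ U) (hL : FG L) : FG (FinFr.extZeroLam j L) := fun x => by
  by_cases hx : x ∈ Set.range j
  · obtain ⟨u₀, rfl⟩ := hx
    obtain ⟨V, n, s, R, ⟨v, hv⟩, hs⟩ := hL u₀
    let E := FinFr.extZeroLam j L
    let s' : Fin n → EtCoh.sect E.carrier ((EtShriek.compEtale j).obj V) :=
      fun i => ((EtShriek.extZeroAdj j).unit.app L.carrier).hom.app (op V) (s i)
    refine ⟨(EtShriek.compEtale j).obj V, n, s', R,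
      ⟨v, (Scheme.Hom.comp_apply V.hom j v).trans (congrArg j hv)⟩, fun Ω _ _ ζ l hz => ?_⟩
    let u : PtsOver j ζ := splitPt l
    have hu : j (u.1 default) = ζ default :=
      (Scheme.Hom.comp_apply _ _ _).symm.trans (congrArg (fun w : Spec _ ⟶ X => w default) u.2)
    have hz' : u₀ ⤳ u.1 default :=
      j.isOpenEmbedding.isInducing.specializes_iff.1 (hu.symm ▸ hz)
    have key : ∀ c, germ ζ E.carrier l (sec E s' c) = ιStalk L.carrier u (germ u.1 L.carrier (splitLift l) (sec L s c)) :=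
      fun c => by
      have e1 : ((EtShriek.extZeroAdj j).unit.app L.carrier).hom.app (op V) (sec L s c) = sec E s' c := by
        rw [sec_apply, sec_apply, map_sum]
        exact Finset.sum_congr rfl fun i _ =>
          congr(($((EtShriek.extZeroAdj j).unit.naturality (L.act (c i)))).hom.app (op V) (s i))
      rw [← e1]
      refine Eq.trans ?_ (ConcreteCategory.congr_hom (toPresheafFiber_ιStalk L.carrier u V (splitLift l)) (sec L s c)).symm
      show germ ζ E.carrier l _ = germ ζ E.carrier (joinLift (splitPt l) (splitLift l)) _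
      rw [show joinLift (splitPt l) (splitLift l) = l from Over.OverMorphism.ext rfl]
      rfl
    haveI := isIso_ιStalk j L.carrier u
    have hb := ConcreteCategory.bijective_of_isIso (ιStalk L.carrier u)
    obtain ⟨hsur, hker⟩ := hs _ u.1 (splitLift l) hz'
    refine ⟨fun b => ?_, fun c => ?_⟩
    · obtain ⟨b', hb'⟩ := hb.2 b
      obtain ⟨c, hc⟩ := hsur b'
      exact ⟨c, (key c).trans ((congrArg _ hc).trans hb')⟩
    · rw [key, ← hker c]
      exact ⟨fun h => hb.1 (h.trans (map_zero _).symm), fun h => (congrArg _ h).trans (map_zero _)⟩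
  · refine ⟨EtCoh.top X, 0, Fin.elim0, ⊤, ⟨x, rfl⟩, fun Ω _ _ ζ l hz => ?_⟩
    haveI : Subsingleton ((EtCoh.stalk ζ).obj (FinFr.extZeroLam j L).carrier) :=
      AddCommGrpCat.subsingleton_of_isZero (isZero_stalk_outside j L.carrier fun h =>
        hx (hz.mem_open j.isOpenEmbedding.isOpen_range h))
    exact ⟨fun b => ⟨0, Subsingleton.elim _ _⟩, fun c => ⟨fun _ => trivial, fun _ => Subsingleton.elim _ _⟩⟩

theorem exists_addOrder_stalk {T : Scheme.{u}} {F : EtCoh.Ab T} (hF : EtCoh.IsTorsion F) {ζ : Spec (CommRingCat.of Ω) ⟶ T}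
    (s : (EtCoh.stalk ζ).obj F) : ∃ n : ℕ, 0 < n ∧ n • s = 0 := by
  obtain ⟨V, l, t, rfl⟩ := (Scheme.pointSmallEtale ζ).toPresheafFiber_jointly_surjective s
  obtain ⟨W, g, ⟨v, hv⟩, hfin⟩ := hF V t (liftHom ζ l default)
  obtain ⟨y, hy⟩ := exists_fiber_map_eq ζ g l v hv
  refine ⟨addOrderOf (F.obj.map g.op t), hfin.addOrderOf_pos, ?_⟩
  rw [← hy]
  show _ • germ ζ F ((Scheme.pointSmallEtale ζ).fiber.map g y) t = 0
  rw [← germ_map]
  show _ • ((Scheme.pointSmallEtale ζ).toPresheafFiber W y F.obj).hom (F.obj.map g.op t) = 0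
  rw [← map_nsmul, addOrderOf_nsmul_eq_zero, map_zero]

omit [IsOpenImmersion j]

/-- Finiteness for sheaves of the class on a proper curve. -/
theorem finite_H_of_fg [IsNoetherianRing Λ] {k : Type u} [Field k] [IsAlgClosed k]
    (f : X ⟶ Spec (CommRingCat.of k)) [IsProper f] (hdim : topologicalKrullDim X ≤ 1) (L : EtLam.Sheaf Λ X)
    (hL : FG L) (hP : ∀ (Ω : Type u) [Field Ω] [IsSepClosed Ω] (ξ : Spec (CommRingCat.of Ω) ⟶ X)
      (s : (EtCoh.stalk ξ).obj L.carrier), ∃ n : ℕ, 0 < n ∧ n • s = 0) (q : ℕ) :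
    Module.Finite Λ (EtCoh.H X L.carrier q) := by
  haveI : IsLocallyNoetherian X := LocallyOfFiniteType.isLocallyNoetherian f
  haveI : CompactSpace X := (quasiCompact_iff_compactSpace f).1 inferInstance
  haveI : AlgebraicGeometry.IsNoetherian X := { }
  obtain ⟨n, hn, hLn⟩ := exists_killed hL (fun n => 0 < n) one_pos (fun a b => Nat.mul_pos) hP
  exact finite_H_killed f hdim n hn (Or.inl inferInstance) q L hL hLn

end Groth.Agent.CurveFinLam
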